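import Mathlib
import Cfsg.Agent.Spor.Comp.Pres

/-! Generated by tools/pg: stabiliser chain cd -/

set_option autoImplicit false
set_option maxRecDepth 100000
set_option linter.unusedVariables false
set_option exponentiation.threshold 100000

namespace Cfsg.Agent.Spor.J4C

open Cfsg.Agent.Spor

noncomputable def cd_S_t0 : BT :=
(.node (.node (.node (.node (.node (.leaf (nat_lit 0x9d52b92a8d258a11c4ce1200c81df7))
 (.leaf (nat_lit 0x4d62f69a169de8a731651224419c20))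
) (.leaf (nat_lit 0x1ac91542c8a15d7499f2131b599c20))
) (.node (.node (.leaf (nat_lit 0xb302874c836c289356f113cab51e40))
 (.leaf (nat_lit 0x83a862bd33b4a2aab10d12ee419c20))
) (.leaf (nat_lit 0x352a9bc1e8595ca88ed23cda460820))
)) (.node (.node (.node (.leaf (nat_lit 0x3ad1bcd430a204a4aa6125af59d85))
 (.leaf (nat_lit 0x92df1b52ed2c0ca432b31392419c20))
) (.leaf (nat_lit 0x6448f1a2924b4a6b4d70129d5b9c20))
) (.node (.node (.leaf (nat_lit 0x4dd4d9050e34df620d9412cb181ea0))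
 (.leaf (nat_lit 0x9c6abba2d04b5caa31f2118a419c20))
) (.leaf (nat_lit 0x9a6b6321728b4a37b2903ddc450820))
))) (.node (.node (.node (.node (.leaf (nat_lit 0xb551592d4bb2a39c9c913e0501d06))
 (.leaf (nat_lit 0x2bd75839b79590a332291526419c20))
) (.leaf (nat_lit 0x925cc7b6638a2eb216a615950a1c20))
) (.node (.node (.leaf (nat_lit 0x5c6f36d894ac146495813bdc890860))
 (.leaf (nat_lit 0x8cd3245e8ea9a0ab30ab135e419c20))
) (.leaf (nat_lit 0x6ae35415c6852439a9f6126e461c20))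
)) (.node (.node (.node (.leaf (nat_lit 0x7c5b05aa85326ce9d5011009261ee3))
 (.leaf (nat_lit 0x742cd796b1a2e6a4b2e61490419c20))
) (.leaf (nat_lit 0x699238dde49d654616ce1214b81c20))
) (.node (.leaf (nat_lit 0xac9f0a0ece31669bb5643b15108900))
 (.leaf (nat_lit 0x2a28e5b6af4c6e3b28d31424461c20))
))))

noncomputable def cd_S_t : BT :=
cd_S_t0

noncomputable def cd_S : ℕ → ℕ → ℕ := fun x i => Nat.land (Nat.shiftRight (BT.get cd_S_t x) (Nat.mul (nat_lit 5) i)) (nat_lit 31)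

noncomputable def cd_defs : LT :=
(.node (.node (.node (.node (.node (.leaf [nat_lit 0])
 (.leaf [nat_lit 0,nat_lit 13,nat_lit 12])
) (.leaf [nat_lit 0,nat_lit 7,nat_lit 7,nat_lit 4])
) (.node (.node (.leaf [nat_lit 0,nat_lit 1,nat_lit 0,nat_lit 3,nat_lit 0,nat_lit 0])
 (.leaf [nat_lit 1,nat_lit 17])
) (.leaf [nat_lit 0,nat_lit 10,nat_lit 10])
)) (.node (.node (.node (.leaf [nat_lit 1,nat_lit 0])
 (.leaf [nat_lit 0,nat_lit 12,nat_lit 13,nat_lit 14])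
) (.leaf [nat_lit 1,nat_lit 8])
) (.node (.node (.leaf [nat_lit 1,nat_lit 4])
 (.leaf [nat_lit 0,nat_lit 19,nat_lit 18,nat_lit 20])
) (.leaf [nat_lit 1,nat_lit 12])
))) (.node (.node (.node (.node (.leaf [nat_lit 0])
 (.leaf [nat_lit 0,nat_lit 14,nat_lit 13])
) (.leaf [nat_lit 0,nat_lit 7,nat_lit 6,nat_lit 6,nat_lit 6])
) (.node (.node (.leaf [nat_lit 0,nat_lit 3,nat_lit 3,nat_lit 3,nat_lit 0])
 (.leaf [nat_lit 1,nat_lit 18])
) (.leaf [nat_lit 0,nat_lit 11,nat_lit 11,nat_lit 11,nat_lit 10,nat_lit 10,nat_lit 10,nat_lit 11])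
)) (.node (.node (.node (.leaf [nat_lit 1,nat_lit 1])
 (.leaf [nat_lit 1,nat_lit 16])
) (.leaf [nat_lit 1,nat_lit 9])
) (.node (.leaf [nat_lit 1,nat_lit 5])
 (.leaf [nat_lit 1,nat_lit 13])
))))
noncomputable def cd_iota : ℕ → ℕ := getP (nat_lit 8) (nat_lit 255) (nat_lit 0x301020006040a080e0c1411131016)
noncomputable def cd_inv : ℕ → ℕ := getP (nat_lit 8) (nat_lit 255) (nat_lit 0xd0e0b0c090a070805060304010200)
noncomputable def cd_hws : LT := .leaf []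

noncomputable def cd_T_t0 : BT :=
(.node (.node (.node (.node (.leaf (nat_lit 0x9c6abba2d04b5caa31f2118a419c20))
 (.leaf (nat_lit 0x6448f1a2924b4a6b4d70129d5b9c20))
) (.node (.leaf (nat_lit 0x83a862bd33b4a2aab10d12ee419c20))
 (.leaf (nat_lit 0x3ad1bcd430a204a4aa6125af59d85))
)) (.node (.node (.leaf (nat_lit 0x742cd796b1a2e6a4b2e61490419c20))
 (.leaf (nat_lit 0x4dd4d9050e34df620d9412cb181ea0))
) (.node (.leaf (nat_lit 0x9a6b6321728b4a37b2903ddc450820))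
 (.leaf (nat_lit 0x7c5b05aa85326ce9d5011009261ee3))
))) (.node (.node (.node (.leaf (nat_lit 0x4d62f69a169de8a731651224419c20))
 (.leaf (nat_lit 0xb302874c836c289356f113cab51e40))
) (.node (.leaf (nat_lit 0x352a9bc1e8595ca88ed23cda460820))
 (.leaf (nat_lit 0xb551592d4bb2a39c9c913e0501d06))
)) (.node (.node (.leaf (nat_lit 0x2bd75839b79590a332291526419c20))
 (.leaf (nat_lit 0x9d52b92a8d258a11c4ce1200c81df7))
) (.leaf (nat_lit 0x1ac91542c8a15d7499f2131b599c20))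
)))

noncomputable def cd_T_t : BT :=
cd_T_t0

noncomputable def cd_T : ℕ → ℕ → ℕ := fun x i => Nat.land (Nat.shiftRight (BT.get cd_T_t x) (Nat.mul (nat_lit 5) i)) (nat_lit 31)

noncomputable def cd_E_t0 : BT :=
(.node (.node (.node (.leaf (nat_lit 0x418c2a05b04600c0a0230361ac0583307606c1d8130100083905b0d41a00187100))
 (.leaf (nat_lit 0x4070128240440880a02304606c118180080600182201000c088000000000000000))
) (.leaf (nat_lit 0xa08c0504303a074158140280d00e0250860941e01d0600101282900c1000000000))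
) (.node (.node (.leaf (nat_lit 0x80ac0504b0361482981306606c1201c08608c2602300000c0980b0881400080000))
 (.leaf (nat_lit 0x4000000000000040000000))
) (.leaf (nat_lit 0x206000814000000000000000020000000000))
))

noncomputable def cd_E_t : BT :=
cd_E_t0

noncomputable def cd_E : ℕ → ℕ → ℕ := fun x i => Nat.land (Nat.shiftRight (BT.get cd_E_t x) (Nat.mul (nat_lit 11) i)) (nat_lit 2047)

theorem cd_slp0 : allLt (nat_lit 21) (fun i => force (Nat.add (nat_lit 2) i) (slpOK cd_S cd_defs (nat_lit 24))) = true := by decide +kernel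

theorem cd_ren : allLt (nat_lit 15) (fun x => force (cd_iota x) fun y => band (blt y (nat_lit 23)) (allRange (nat_lit 0) (nat_lit 24) fun i => Nat.beq (cd_S y i) (cd_T x i))) = true := by decide +kernel

theorem cd_L5_o : band (allRange (nat_lit 0) (nat_lit 24) (orbOK cd_T (nat_lit 1) (cd_E (nat_lit 5)) (Nat.beq (nat_lit 2)))) (band (Nat.ble (nat_lit 2) (count2 (nat_lit 24) fun p => Nat.ble 256 (cd_E (nat_lit 5) p))) (allLt (nat_lit 0) (fun x => Nat.beq (cd_T x (nat_lit 2)) (nat_lit 2)))) = true := by decide +kernel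

theorem cd_L4_o : band (allRange (nat_lit 0) (nat_lit 24) (orbOK cd_T (nat_lit 5) (cd_E (nat_lit 4)) (Nat.beq (nat_lit 5)))) (band (Nat.ble (nat_lit 16) (count2 (nat_lit 24) fun p => Nat.ble 256 (cd_E (nat_lit 4) p))) (allLt (nat_lit 1) (fun x => Nat.beq (cd_T x (nat_lit 5)) (nat_lit 5)))) = true := by decide +kernel

theorem cd_L3_o : band (allRange (nat_lit 0) (nat_lit 24) (orbOK cd_T (nat_lit 7) (cd_E (nat_lit 3)) (Nat.beq (nat_lit 3)))) (band (Nat.ble (nat_lit 3) (count2 (nat_lit 24) fun p => Nat.ble 256 (cd_E (nat_lit 3) p))) (allLt (nat_lit 5) (fun x => Nat.beq (cd_T x (nat_lit 3)) (nat_lit 3)))) = true := by decide +kernel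

theorem cd_L2_o : band (allRange (nat_lit 0) (nat_lit 24) (orbOK cd_T (nat_lit 9) (cd_E (nat_lit 2)) (Nat.beq (nat_lit 4)))) (band (Nat.ble (nat_lit 20) (count2 (nat_lit 24) fun p => Nat.ble 256 (cd_E (nat_lit 2) p))) (allLt (nat_lit 7) (fun x => Nat.beq (cd_T x (nat_lit 4)) (nat_lit 4)))) = true := by decide +kernel

theorem cd_L1_o : band (allRange (nat_lit 0) (nat_lit 24) (orbOK cd_T (nat_lit 11) (cd_E (nat_lit 1)) (Nat.beq (nat_lit 1)))) (band (Nat.ble (nat_lit 21) (count2 (nat_lit 24) fun p => Nat.ble 256 (cd_E (nat_lit 1) p))) (allLt (nat_lit 9) (fun x => Nat.beq (cd_T x (nat_lit 1)) (nat_lit 1)))) = true := by decide +kernel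

theorem cd_L0_o : band (allRange (nat_lit 0) (nat_lit 24) (orbOK cd_T (nat_lit 15) (cd_E (nat_lit 0)) (Nat.beq (nat_lit 0)))) (band (Nat.ble (nat_lit 22) (count2 (nat_lit 24) fun p => Nat.ble 256 (cd_E (nat_lit 0) p))) (allLt (nat_lit 11) (fun x => Nat.beq (cd_T x (nat_lit 0)) (nat_lit 0)))) = true := by decide +kernel

/-- The letters: a strong generating set, deepest stabiliser first. -/
noncomputable def cd_g {G : Type*} [Group G] (a : ℕ → G) : ℕ → G := fun x => slp a 2 cd_defs (cd_iota x)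

theorem cd_tabs {G α : Type*} [Group G] [MulAction G α] {e : ℕ → α} {a : ℕ → G} (h0 : Tabs e 24 cd_S a 2) : Tabs e 24 cd_T (cd_g a) 15 :=
  Tabs.rename (ι := cd_iota) (g := slp a 2 cd_defs) ((Tabs.slp_base cd_defs h0).slp_add (by decide) _ cd_slp0) cd_ren

theorem cd_gen {G : Type*} [Group G] (a : ℕ → G) : genLt (cd_g a) 15 = genLt a 2 :=
  genLt_slp_eq a cd_defs (back := getP 8 255 (nat_lit 0xd0b)) (by decide +kernel)

theorem cd_low5 {G α : Type*} [Group G] [MulAction G α] {e : ℕ → α} {a : ℕ → G} (he : Set.InjOn e (Set.Iio 24)) (h0 : Tabs e 24 cd_S a 2) :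
    LowLevel (genLt (cd_g a) 1) (genLt (cd_g a) 0) (e 2) 2 :=
  Tabs.lowLevel (cd_tabs h0) he (by decide) (by decide) (by decide) cd_L5_o

theorem cd_ge5 {G α : Type*} [Group G] [MulAction G α] {e : ℕ → α} {a : ℕ → G} (he : Set.InjOn e (Set.Iio 24)) (h0 : Tabs e 24 cd_S a 2) :
    Finite (genLt (cd_g a) 1) → 2 ≤ Nat.card (genLt (cd_g a) 1) := fun hK =>
  (cd_low5 he h0).card hK (one_le_card_fin _)

theorem cd_fix5 {G α : Type*} [Group G] [MulAction G α] {e : ℕ → α} {a : ℕ → G} (he : Set.InjOn e (Set.Iio 24)) (h0 : Tabs e 24 cd_S a 2) :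
    ∀ X : Subgroup G, Finite X → (genLt (cd_g a) 1) ≤ X → 2 * Nat.card (fixB e X [2]) ≤ Nat.card X :=
  (cd_low5 he h0).card_fix (card_fix_nil _ _)

theorem cd_low4 {G α : Type*} [Group G] [MulAction G α] {e : ℕ → α} {a : ℕ → G} (he : Set.InjOn e (Set.Iio 24)) (h0 : Tabs e 24 cd_S a 2) :
    LowLevel (genLt (cd_g a) 5) (genLt (cd_g a) 1) (e 5) 16 :=
  Tabs.lowLevel (cd_tabs h0) he (by decide) (by decide) (by decide) cd_L4_o

theorem cd_ge4 {G α : Type*} [Group G] [MulAction G α] {e : ℕ → α} {a : ℕ → G} (he : Set.InjOn e (Set.Iio 24)) (h0 : Tabs e 24 cd_S a 2) :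
    Finite (genLt (cd_g a) 5) → 32 ≤ Nat.card (genLt (cd_g a) 5) := fun hK =>
  (cd_low4 he h0).card hK (cd_ge5 he h0)

theorem cd_fix4 {G α : Type*} [Group G] [MulAction G α] {e : ℕ → α} {a : ℕ → G} (he : Set.InjOn e (Set.Iio 24)) (h0 : Tabs e 24 cd_S a 2) :
    ∀ X : Subgroup G, Finite X → (genLt (cd_g a) 5) ≤ X → 32 * Nat.card (fixB e X [5, 2]) ≤ Nat.card X :=
  (cd_low4 he h0).card_fix (cd_fix5 he h0)

theorem cd_low3 {G α : Type*} [Group G] [MulAction G α] {e : ℕ → α} {a : ℕ → G} (he : Set.InjOn e (Set.Iio 24)) (h0 : Tabs e 24 cd_S a 2) :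
    LowLevel (genLt (cd_g a) 7) (genLt (cd_g a) 5) (e 3) 3 :=
  Tabs.lowLevel (cd_tabs h0) he (by decide) (by decide) (by decide) cd_L3_o

theorem cd_ge3 {G α : Type*} [Group G] [MulAction G α] {e : ℕ → α} {a : ℕ → G} (he : Set.InjOn e (Set.Iio 24)) (h0 : Tabs e 24 cd_S a 2) :
    Finite (genLt (cd_g a) 7) → 96 ≤ Nat.card (genLt (cd_g a) 7) := fun hK =>
  (cd_low3 he h0).card hK (cd_ge4 he h0)

theorem cd_fix3 {G α : Type*} [Group G] [MulAction G α] {e : ℕ → α} {a : ℕ → G} (he : Set.InjOn e (Set.Iio 24)) (h0 : Tabs e 24 cd_S a 2) :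
    ∀ X : Subgroup G, Finite X → (genLt (cd_g a) 7) ≤ X → 96 * Nat.card (fixB e X [3, 5, 2]) ≤ Nat.card X :=
  (cd_low3 he h0).card_fix (cd_fix4 he h0)

theorem cd_low2 {G α : Type*} [Group G] [MulAction G α] {e : ℕ → α} {a : ℕ → G} (he : Set.InjOn e (Set.Iio 24)) (h0 : Tabs e 24 cd_S a 2) :
    LowLevel (genLt (cd_g a) 9) (genLt (cd_g a) 7) (e 4) 20 :=
  Tabs.lowLevel (cd_tabs h0) he (by decide) (by decide) (by decide) cd_L2_o

theorem cd_ge2 {G α : Type*} [Group G] [MulAction G α] {e : ℕ → α} {a : ℕ → G} (he : Set.InjOn e (Set.Iio 24)) (h0 : Tabs e 24 cd_S a 2) :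
    Finite (genLt (cd_g a) 9) → 1920 ≤ Nat.card (genLt (cd_g a) 9) := fun hK =>
  (cd_low2 he h0).card hK (cd_ge3 he h0)

theorem cd_fix2 {G α : Type*} [Group G] [MulAction G α] {e : ℕ → α} {a : ℕ → G} (he : Set.InjOn e (Set.Iio 24)) (h0 : Tabs e 24 cd_S a 2) :
    ∀ X : Subgroup G, Finite X → (genLt (cd_g a) 9) ≤ X → 1920 * Nat.card (fixB e X [4, 3, 5, 2]) ≤ Nat.card X :=
  (cd_low2 he h0).card_fix (cd_fix3 he h0)

theorem cd_low1 {G α : Type*} [Group G] [MulAction G α] {e : ℕ → α} {a : ℕ → G} (he : Set.InjOn e (Set.Iio 24)) (h0 : Tabs e 24 cd_S a 2) :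
    LowLevel (genLt (cd_g a) 11) (genLt (cd_g a) 9) (e 1) 21 :=
  Tabs.lowLevel (cd_tabs h0) he (by decide) (by decide) (by decide) cd_L1_o

theorem cd_ge1 {G α : Type*} [Group G] [MulAction G α] {e : ℕ → α} {a : ℕ → G} (he : Set.InjOn e (Set.Iio 24)) (h0 : Tabs e 24 cd_S a 2) :
    Finite (genLt (cd_g a) 11) → 40320 ≤ Nat.card (genLt (cd_g a) 11) := fun hK =>
  (cd_low1 he h0).card hK (cd_ge2 he h0)

theorem cd_fix1 {G α : Type*} [Group G] [MulAction G α] {e : ℕ → α} {a : ℕ → G} (he : Set.InjOn e (Set.Iio 24)) (h0 : Tabs e 24 cd_S a 2) :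
    ∀ X : Subgroup G, Finite X → (genLt (cd_g a) 11) ≤ X → 40320 * Nat.card (fixB e X [1, 4, 3, 5, 2]) ≤ Nat.card X :=
  (cd_low1 he h0).card_fix (cd_fix2 he h0)

theorem cd_low0 {G α : Type*} [Group G] [MulAction G α] {e : ℕ → α} {a : ℕ → G} (he : Set.InjOn e (Set.Iio 24)) (h0 : Tabs e 24 cd_S a 2) :
    LowLevel (genLt (cd_g a) 15) (genLt (cd_g a) 11) (e 0) 22 :=
  Tabs.lowLevel (cd_tabs h0) he (by decide) (by decide) (by decide) cd_L0_o

theorem cd_ge0 {G α : Type*} [Group G] [MulAction G α] {e : ℕ → α} {a : ℕ → G} (he : Set.InjOn e (Set.Iio 24)) (h0 : Tabs e 24 cd_S a 2) :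
    Finite (genLt (cd_g a) 15) → 887040 ≤ Nat.card (genLt (cd_g a) 15) := fun hK =>
  (cd_low0 he h0).card hK (cd_ge1 he h0)

theorem cd_fix0 {G α : Type*} [Group G] [MulAction G α] {e : ℕ → α} {a : ℕ → G} (he : Set.InjOn e (Set.Iio 24)) (h0 : Tabs e 24 cd_S a 2) :
    ∀ X : Subgroup G, Finite X → (genLt (cd_g a) 15) ≤ X → 887040 * Nat.card (fixB e X [0, 1, 4, 3, 5, 2]) ≤ Nat.card X :=
  (cd_low0 he h0).card_fix (cd_fix1 he h0)

theorem cd_ub0 {G α : Type*} [Group G] [MulAction G α] {e : ℕ → α} {a : ℕ → G} (he : Set.InjOn e (Set.Iio 24)) (h0 : Tabs e 24 cd_S a 2) (hub : Nat.card (genLt a 2) ≠ 0 ∧ Nat.card (genLt a 2) ≤ 887040) :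
    Nat.card (genLt (cd_g a) 15) ≠ 0 ∧ Nat.card (genLt (cd_g a) 15) ≤ 887040 := by rw [cd_gen]; exact hub

theorem cd_level0 {G α : Type*} [Group G] [MulAction G α] {e : ℕ → α} {a : ℕ → G} (he : Set.InjOn e (Set.Iio 24)) (h0 : Tabs e 24 cd_S a 2) (hub : Nat.card (genLt a 2) ≠ 0 ∧ Nat.card (genLt a 2) ≤ 887040) :
    Level (genLt (cd_g a) 15) (genLt (cd_g a) 11) (e 0) 22 :=
  ((cd_low0 he h0).level (c := 40320) (cd_ub0 he h0 hub) (cd_ge1 he h0)).1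

theorem cd_ub1 {G α : Type*} [Group G] [MulAction G α] {e : ℕ → α} {a : ℕ → G} (he : Set.InjOn e (Set.Iio 24)) (h0 : Tabs e 24 cd_S a 2) (hub : Nat.card (genLt a 2) ≠ 0 ∧ Nat.card (genLt a 2) ≤ 887040) :
    Nat.card (genLt (cd_g a) 11) ≠ 0 ∧ Nat.card (genLt (cd_g a) 11) ≤ 40320 :=
  ((cd_low0 he h0).level (c := 40320) (cd_ub0 he h0 hub) (cd_ge1 he h0)).2

theorem cd_level1 {G α : Type*} [Group G] [MulAction G α] {e : ℕ → α} {a : ℕ → G} (he : Set.InjOn e (Set.Iio 24)) (h0 : Tabs e 24 cd_S a 2) (hub : Nat.card (genLt a 2) ≠ 0 ∧ Nat.card (genLt a 2) ≤ 887040) :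
    Level (genLt (cd_g a) 11) (genLt (cd_g a) 9) (e 1) 21 :=
  ((cd_low1 he h0).level (c := 1920) (cd_ub1 he h0 hub) (cd_ge2 he h0)).1

theorem cd_ub2 {G α : Type*} [Group G] [MulAction G α] {e : ℕ → α} {a : ℕ → G} (he : Set.InjOn e (Set.Iio 24)) (h0 : Tabs e 24 cd_S a 2) (hub : Nat.card (genLt a 2) ≠ 0 ∧ Nat.card (genLt a 2) ≤ 887040) :
    Nat.card (genLt (cd_g a) 9) ≠ 0 ∧ Nat.card (genLt (cd_g a) 9) ≤ 1920 :=
  ((cd_low1 he h0).level (c := 1920) (cd_ub1 he h0 hub) (cd_ge2 he h0)).2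

theorem cd_level2 {G α : Type*} [Group G] [MulAction G α] {e : ℕ → α} {a : ℕ → G} (he : Set.InjOn e (Set.Iio 24)) (h0 : Tabs e 24 cd_S a 2) (hub : Nat.card (genLt a 2) ≠ 0 ∧ Nat.card (genLt a 2) ≤ 887040) :
    Level (genLt (cd_g a) 9) (genLt (cd_g a) 7) (e 4) 20 :=
  ((cd_low2 he h0).level (c := 96) (cd_ub2 he h0 hub) (cd_ge3 he h0)).1

theorem cd_ub3 {G α : Type*} [Group G] [MulAction G α] {e : ℕ → α} {a : ℕ → G} (he : Set.InjOn e (Set.Iio 24)) (h0 : Tabs e 24 cd_S a 2) (hub : Nat.card (genLt a 2) ≠ 0 ∧ Nat.card (genLt a 2) ≤ 887040) :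
    Nat.card (genLt (cd_g a) 7) ≠ 0 ∧ Nat.card (genLt (cd_g a) 7) ≤ 96 :=
  ((cd_low2 he h0).level (c := 96) (cd_ub2 he h0 hub) (cd_ge3 he h0)).2

theorem cd_level3 {G α : Type*} [Group G] [MulAction G α] {e : ℕ → α} {a : ℕ → G} (he : Set.InjOn e (Set.Iio 24)) (h0 : Tabs e 24 cd_S a 2) (hub : Nat.card (genLt a 2) ≠ 0 ∧ Nat.card (genLt a 2) ≤ 887040) :
    Level (genLt (cd_g a) 7) (genLt (cd_g a) 5) (e 3) 3 :=
  ((cd_low3 he h0).level (c := 32) (cd_ub3 he h0 hub) (cd_ge4 he h0)).1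

theorem cd_ub4 {G α : Type*} [Group G] [MulAction G α] {e : ℕ → α} {a : ℕ → G} (he : Set.InjOn e (Set.Iio 24)) (h0 : Tabs e 24 cd_S a 2) (hub : Nat.card (genLt a 2) ≠ 0 ∧ Nat.card (genLt a 2) ≤ 887040) :
    Nat.card (genLt (cd_g a) 5) ≠ 0 ∧ Nat.card (genLt (cd_g a) 5) ≤ 32 :=
  ((cd_low3 he h0).level (c := 32) (cd_ub3 he h0 hub) (cd_ge4 he h0)).2

theorem cd_level4 {G α : Type*} [Group G] [MulAction G α] {e : ℕ → α} {a : ℕ → G} (he : Set.InjOn e (Set.Iio 24)) (h0 : Tabs e 24 cd_S a 2) (hub : Nat.card (genLt a 2) ≠ 0 ∧ Nat.card (genLt a 2) ≤ 887040) :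
    Level (genLt (cd_g a) 5) (genLt (cd_g a) 1) (e 5) 16 :=
  ((cd_low4 he h0).level (c := 2) (cd_ub4 he h0 hub) (cd_ge5 he h0)).1

theorem cd_ub5 {G α : Type*} [Group G] [MulAction G α] {e : ℕ → α} {a : ℕ → G} (he : Set.InjOn e (Set.Iio 24)) (h0 : Tabs e 24 cd_S a 2) (hub : Nat.card (genLt a 2) ≠ 0 ∧ Nat.card (genLt a 2) ≤ 887040) :
    Nat.card (genLt (cd_g a) 1) ≠ 0 ∧ Nat.card (genLt (cd_g a) 1) ≤ 2 :=
  ((cd_low4 he h0).level (c := 2) (cd_ub4 he h0 hub) (cd_ge5 he h0)).2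

theorem cd_level5 {G α : Type*} [Group G] [MulAction G α] {e : ℕ → α} {a : ℕ → G} (he : Set.InjOn e (Set.Iio 24)) (h0 : Tabs e 24 cd_S a 2) (hub : Nat.card (genLt a 2) ≠ 0 ∧ Nat.card (genLt a 2) ≤ 887040) :
    Level (genLt (cd_g a) 1) (genLt (cd_g a) 0) (e 2) 2 :=
  ((cd_low5 he h0).level (c := 1) (cd_ub5 he h0 hub) (one_le_card_fin _)).1

theorem cd_card5 {G α : Type*} [Group G] [MulAction G α] {e : ℕ → α} {a : ℕ → G} (he : Set.InjOn e (Set.Iio 24)) (h0 : Tabs e 24 cd_S a 2) (hub : Nat.card (genLt a 2) ≠ 0 ∧ Nat.card (genLt a 2) ≤ 887040) :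
    Nat.card (genLt (cd_g a) 1) = 2 :=
  (cd_level5 he h0 hub).card (card_genLt_zero _)

theorem cd_base5 {G α : Type*} [Group G] [MulAction G α] {e : ℕ → α} {a : ℕ → G} (he : Set.InjOn e (Set.Iio 24)) (h0 : Tabs e 24 cd_S a 2) (hub : Nat.card (genLt a 2) ≠ 0 ∧ Nat.card (genLt a 2) ≤ 887040) :
    IsBase e (genLt (cd_g a) 1) [2] :=
  (cd_level5 he h0 hub).base (isBase_genLt_zero _ _)

theorem cd_card4 {G α : Type*} [Group G] [MulAction G α] {e : ℕ → α} {a : ℕ → G} (he : Set.InjOn e (Set.Iio 24)) (h0 : Tabs e 24 cd_S a 2) (hub : Nat.card (genLt a 2) ≠ 0 ∧ Nat.card (genLt a 2) ≤ 887040) :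
    Nat.card (genLt (cd_g a) 5) = 32 :=
  (cd_level4 he h0 hub).card (cd_card5 he h0 hub)

theorem cd_base4 {G α : Type*} [Group G] [MulAction G α] {e : ℕ → α} {a : ℕ → G} (he : Set.InjOn e (Set.Iio 24)) (h0 : Tabs e 24 cd_S a 2) (hub : Nat.card (genLt a 2) ≠ 0 ∧ Nat.card (genLt a 2) ≤ 887040) :
    IsBase e (genLt (cd_g a) 5) [5, 2] :=
  (cd_level4 he h0 hub).base (cd_base5 he h0 hub)

theorem cd_card3 {G α : Type*} [Group G] [MulAction G α] {e : ℕ → α} {a : ℕ → G} (he : Set.InjOn e (Set.Iio 24)) (h0 : Tabs e 24 cd_S a 2) (hub : Nat.card (genLt a 2) ≠ 0 ∧ Nat.card (genLt a 2) ≤ 887040) :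
    Nat.card (genLt (cd_g a) 7) = 96 :=
  (cd_level3 he h0 hub).card (cd_card4 he h0 hub)

theorem cd_base3 {G α : Type*} [Group G] [MulAction G α] {e : ℕ → α} {a : ℕ → G} (he : Set.InjOn e (Set.Iio 24)) (h0 : Tabs e 24 cd_S a 2) (hub : Nat.card (genLt a 2) ≠ 0 ∧ Nat.card (genLt a 2) ≤ 887040) :
    IsBase e (genLt (cd_g a) 7) [3, 5, 2] :=
  (cd_level3 he h0 hub).base (cd_base4 he h0 hub)

theorem cd_card2 {G α : Type*} [Group G] [MulAction G α] {e : ℕ → α} {a : ℕ → G} (he : Set.InjOn e (Set.Iio 24)) (h0 : Tabs e 24 cd_S a 2) (hub : Nat.card (genLt a 2) ≠ 0 ∧ Nat.card (genLt a 2) ≤ 887040) :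
    Nat.card (genLt (cd_g a) 9) = 1920 :=
  (cd_level2 he h0 hub).card (cd_card3 he h0 hub)

theorem cd_base2 {G α : Type*} [Group G] [MulAction G α] {e : ℕ → α} {a : ℕ → G} (he : Set.InjOn e (Set.Iio 24)) (h0 : Tabs e 24 cd_S a 2) (hub : Nat.card (genLt a 2) ≠ 0 ∧ Nat.card (genLt a 2) ≤ 887040) :
    IsBase e (genLt (cd_g a) 9) [4, 3, 5, 2] :=
  (cd_level2 he h0 hub).base (cd_base3 he h0 hub)

theorem cd_card1 {G α : Type*} [Group G] [MulAction G α] {e : ℕ → α} {a : ℕ → G} (he : Set.InjOn e (Set.Iio 24)) (h0 : Tabs e 24 cd_S a 2) (hub : Nat.card (genLt a 2) ≠ 0 ∧ Nat.card (genLt a 2) ≤ 887040) :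
    Nat.card (genLt (cd_g a) 11) = 40320 :=
  (cd_level1 he h0 hub).card (cd_card2 he h0 hub)

theorem cd_base1 {G α : Type*} [Group G] [MulAction G α] {e : ℕ → α} {a : ℕ → G} (he : Set.InjOn e (Set.Iio 24)) (h0 : Tabs e 24 cd_S a 2) (hub : Nat.card (genLt a 2) ≠ 0 ∧ Nat.card (genLt a 2) ≤ 887040) :
    IsBase e (genLt (cd_g a) 11) [1, 4, 3, 5, 2] :=
  (cd_level1 he h0 hub).base (cd_base2 he h0 hub)

theorem cd_card0 {G α : Type*} [Group G] [MulAction G α] {e : ℕ → α} {a : ℕ → G} (he : Set.InjOn e (Set.Iio 24)) (h0 : Tabs e 24 cd_S a 2) (hub : Nat.card (genLt a 2) ≠ 0 ∧ Nat.card (genLt a 2) ≤ 887040) :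
    Nat.card (genLt (cd_g a) 15) = 887040 :=
  (cd_level0 he h0 hub).card (cd_card1 he h0 hub)

theorem cd_base0 {G α : Type*} [Group G] [MulAction G α] {e : ℕ → α} {a : ℕ → G} (he : Set.InjOn e (Set.Iio 24)) (h0 : Tabs e 24 cd_S a 2) (hub : Nat.card (genLt a 2) ≠ 0 ∧ Nat.card (genLt a 2) ≤ 887040) :
    IsBase e (genLt (cd_g a) 15) [0, 1, 4, 3, 5, 2] :=
  (cd_level0 he h0 hub).base (cd_base1 he h0 hub)

theorem cd_hinv {G α : Type*} [Group G] [MulAction G α] {e : ℕ → α} {a : ℕ → G} (he : Set.InjOn e (Set.Iio 24)) (h0 : Tabs e 24 cd_S a 2) (hub : Nat.card (genLt a 2) ≠ 0 ∧ Nat.card (genLt a 2) ≤ 887040) : ∀ x < 15, cd_g a x * cd_g a (cd_inv x) = 1 :=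
  (cd_tabs h0).hinv_of_base (cd_base0 he h0 hub) (by decide +kernel)

theorem cd_card {G α : Type*} [Group G] [MulAction G α] {e : ℕ → α} {a : ℕ → G} (he : Set.InjOn e (Set.Iio 24)) (h0 : Tabs e 24 cd_S a 2) (hub : Nat.card (genLt a 2) ≠ 0 ∧ Nat.card (genLt a 2) ≤ 887040) :
    Nat.card (genLt a 2) = 887040 := by
  rw [← cd_gen]; exact cd_card0 he h0 hub

end Cfsg.Agent.Spor.J4C
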