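import Mathlib
import Cfsg.Agent.Spor.Comp.Pres

/-! Generated by tools/pg: stabiliser chain cs -/

set_option autoImplicit false
set_option maxRecDepth 100000
set_option linter.unusedVariables false
set_option exponentiation.threshold 100000

namespace Cfsg.Agent.Spor.J4C

open Cfsg.Agent.Spor

noncomputable def cs_S_t0 : BT :=
(.node (.node (.node (.node (.node (.leaf (nat_lit 0xbc1421b5066596e8849201d33796b4))
 (.leaf (nat_lit 0xb95467c9a39922c5d4e84d2ce80820))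
) (.leaf (nat_lit 0xaeb0190ed64846b5caf8a50ea4d40))
) (.node (.leaf (nat_lit 0xbb820221761b24f6d4b1340499d147))
 (.leaf (nat_lit 0xaa6e83ca302918d1aad4999ee58820))
)) (.node (.node (.node (.leaf (nat_lit 0xac5467cc0b734a785d2c4125610c34))
 (.leaf (nat_lit 0xba1474922b3398d85676a3cb218820))
) (.leaf (nat_lit 0x52ea3138f44120fb04c58b1329b6e0))
) (.node (.leaf (nat_lit 0x512e0916cb9bdc885527651a610c31))
 (.leaf (nat_lit 0x536b4990cc7bad045c4b1c4b23a420))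
))) (.node (.node (.node (.node (.leaf (nat_lit 0xbb436980c28ca895d50c3bca480d4e))
 (.leaf (nat_lit 0x54eb4b498b491b185de62a0ee18820))
) (.leaf (nat_lit 0x7a0a74c84a1918db9a93b416ea8620))
) (.node (.leaf (nat_lit 0xbd14d9b9e3302c8585893c4a4142b2))
 (.leaf (nat_lit 0xbcd54b104f839ac355093ac722c420))
)) (.node (.node (.node (.leaf (nat_lit 0x59c4c4bab1b911628e746854033e12))
 (.leaf (nat_lit 0xabee5339abb4a2c829093ce8418820))
) (.leaf (nat_lit 0x59c6944826b918d2c276a2aae7c440))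
) (.node (.leaf (nat_lit 0x7b22848201148f4b966db0d6e554c4))
 (.leaf (nat_lit 0x51ea943a237c98d5de93b14c480820))
))))

noncomputable def cs_S_t : BT :=
cs_S_t0

noncomputable def cs_S : ℕ → ℕ → ℕ := fun x i => Nat.land (Nat.shiftRight (BT.get cs_S_t x) (Nat.mul (nat_lit 5) i)) (nat_lit 31)

noncomputable def cs_defs : LT :=
(.node (.node (.node (.node (.node (.leaf [nat_lit 0])
 (.leaf [nat_lit 0,nat_lit 13,nat_lit 14,nat_lit 12,nat_lit 14,nat_lit 13])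
) (.leaf [nat_lit 0,nat_lit 4,nat_lit 2])
) (.node (.leaf [nat_lit 1,nat_lit 0])
 (.leaf [nat_lit 0,nat_lit 9,nat_lit 9,nat_lit 9])
)) (.node (.node (.node (.leaf [nat_lit 0])
 (.leaf [nat_lit 0,nat_lit 12,nat_lit 15,nat_lit 12])
) (.leaf [nat_lit 1,nat_lit 8])
) (.node (.leaf [nat_lit 1,nat_lit 2])
 (.leaf [nat_lit 0,nat_lit 8,nat_lit 11,nat_lit 8,nat_lit 11,nat_lit 8,nat_lit 11])
))) (.node (.node (.node (.node (.leaf [nat_lit 0])
 (.leaf [nat_lit 0,nat_lit 12,nat_lit 16,nat_lit 12])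
) (.leaf [nat_lit 0,nat_lit 7,nat_lit 5])
) (.node (.leaf [nat_lit 1,nat_lit 1])
 (.leaf [nat_lit 0,nat_lit 10,nat_lit 11,nat_lit 11,nat_lit 11,nat_lit 8])
)) (.node (.node (.node (.leaf [nat_lit 0])
 (.leaf [nat_lit 0,nat_lit 18,nat_lit 17,nat_lit 18])
) (.leaf [nat_lit 1,nat_lit 9])
) (.node (.leaf [nat_lit 1,nat_lit 3])
 (.leaf [nat_lit 0,nat_lit 13,nat_lit 12,nat_lit 13])
))))
noncomputable def cs_iota : ℕ → ℕ := getP (nat_lit 8) (nat_lit 255) (nat_lit 0x7030602050104000b090e0c1113)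
noncomputable def cs_inv : ℕ → ℕ := getP (nat_lit 8) (nat_lit 255) (nat_lit 0xc0d0a0b08090607040503020100)
noncomputable def cs_hws : LT := .leaf []

noncomputable def cs_T_t0 : BT :=
(.node (.node (.node (.node (.leaf (nat_lit 0xabee5339abb4a2c829093ce8418820))
 (.leaf (nat_lit 0xbb436980c28ca895d50c3bca480d4e))
) (.node (.leaf (nat_lit 0x7a0a74c84a1918db9a93b416ea8620))
 (.leaf (nat_lit 0x59c4c4bab1b911628e746854033e12))
)) (.node (.node (.leaf (nat_lit 0xaa6e83ca302918d1aad4999ee58820))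
 (.leaf (nat_lit 0xac5467cc0b734a785d2c4125610c34))
) (.leaf (nat_lit 0xbc1421b5066596e8849201d33796b4))
)) (.node (.node (.node (.leaf (nat_lit 0x54eb4b498b491b185de62a0ee18820))
 (.leaf (nat_lit 0xbd14d9b9e3302c8585893c4a4142b2))
) (.node (.leaf (nat_lit 0x59c6944826b918d2c276a2aae7c440))
 (.leaf (nat_lit 0x7b22848201148f4b966db0d6e554c4))
)) (.node (.node (.leaf (nat_lit 0x536b4990cc7bad045c4b1c4b23a420))
 (.leaf (nat_lit 0x512e0916cb9bdc885527651a610c31))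
) (.leaf (nat_lit 0xbb820221761b24f6d4b1340499d147))
)))

noncomputable def cs_T_t : BT :=
cs_T_t0

noncomputable def cs_T : ℕ → ℕ → ℕ := fun x i => Nat.land (Nat.shiftRight (BT.get cs_T_t x) (Nat.mul (nat_lit 5) i)) (nat_lit 31)

noncomputable def cs_E_t0 : BT :=
(.node (.node (.node (.leaf (nat_lit 0x808c2586a076048210530c6148258430d60d0358230240cc2d8020c606c1d82100))
 (.leaf (nat_lit 0xc000000000080400000000000000000000000010000000000000))
) (.leaf (nat_lit 0xc080040280200281d0060200201d0280600101b00a0300601000a0440000000))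
) (.node (.node (.leaf (nat_lit 0xa0300f0040580000102c0380200180301a0101181c01a08c0e81000a0a81080000))
 (.leaf (nat_lit 0x2000000000000000000000000000000000000000008000000000000000))
) (.leaf (nat_lit 0x30000000000000404000000000000000000020000000000))
))

noncomputable def cs_E_t : BT :=
cs_E_t0

noncomputable def cs_E : ℕ → ℕ → ℕ := fun x i => Nat.land (Nat.shiftRight (BT.get cs_E_t x) (Nat.mul (nat_lit 11) i)) (nat_lit 2047)

theorem cs_slp0 : allLt (nat_lit 16) (fun i => force (Nat.add (nat_lit 4) i) (slpOK cs_S cs_defs (nat_lit 24))) = true := by decide +kernel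

theorem cs_ren : allLt (nat_lit 14) (fun x => force (cs_iota x) fun y => band (blt y (nat_lit 20)) (allRange (nat_lit 0) (nat_lit 24) fun i => Nat.beq (cs_S y i) (cs_T x i))) = true := by decide +kernel

theorem cs_L5_o : band (allRange (nat_lit 0) (nat_lit 24) (orbOK cs_T (nat_lit 1) (cs_E (nat_lit 5)) (Nat.beq (nat_lit 5)))) (band (Nat.ble (nat_lit 2) (count2 (nat_lit 24) fun p => Nat.ble 256 (cs_E (nat_lit 5) p))) (allLt (nat_lit 0) (fun x => Nat.beq (cs_T x (nat_lit 5)) (nat_lit 5)))) = true := by decide +kernel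

theorem cs_L4_o : band (allRange (nat_lit 0) (nat_lit 24) (orbOK cs_T (nat_lit 2) (cs_E (nat_lit 4)) (Nat.beq (nat_lit 4)))) (band (Nat.ble (nat_lit 3) (count2 (nat_lit 24) fun p => Nat.ble 256 (cs_E (nat_lit 4) p))) (allLt (nat_lit 1) (fun x => Nat.beq (cs_T x (nat_lit 4)) (nat_lit 4)))) = true := by decide +kernel

theorem cs_L3_o : band (allRange (nat_lit 0) (nat_lit 24) (orbOK cs_T (nat_lit 3) (cs_E (nat_lit 3)) (Nat.beq (nat_lit 3)))) (band (Nat.ble (nat_lit 3) (count2 (nat_lit 24) fun p => Nat.ble 256 (cs_E (nat_lit 3) p))) (allLt (nat_lit 2) (fun x => Nat.beq (cs_T x (nat_lit 3)) (nat_lit 3)))) = true := by decide +kernel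

theorem cs_L2_o : band (allRange (nat_lit 0) (nat_lit 24) (orbOK cs_T (nat_lit 4) (cs_E (nat_lit 2)) (Nat.beq (nat_lit 2)))) (band (Nat.ble (nat_lit 16) (count2 (nat_lit 24) fun p => Nat.ble 256 (cs_E (nat_lit 2) p))) (allLt (nat_lit 3) (fun x => Nat.beq (cs_T x (nat_lit 2)) (nat_lit 2)))) = true := by decide +kernel

theorem cs_L1_o : band (allRange (nat_lit 0) (nat_lit 24) (orbOK cs_T (nat_lit 6) (cs_E (nat_lit 1)) (Nat.beq (nat_lit 1)))) (band (Nat.ble (nat_lit 20) (count2 (nat_lit 24) fun p => Nat.ble 256 (cs_E (nat_lit 1) p))) (allLt (nat_lit 4) (fun x => Nat.beq (cs_T x (nat_lit 1)) (nat_lit 1)))) = true := by decide +kernel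

theorem cs_L0_o : band (allRange (nat_lit 0) (nat_lit 24) (orbOK cs_T (nat_lit 14) (cs_E (nat_lit 0)) (Nat.beq (nat_lit 0)))) (band (Nat.ble (nat_lit 24) (count2 (nat_lit 24) fun p => Nat.ble 256 (cs_E (nat_lit 0) p))) (allLt (nat_lit 6) (fun x => Nat.beq (cs_T x (nat_lit 0)) (nat_lit 0)))) = true := by decide +kernel

/-- The letters: a strong generating set, deepest stabiliser first. -/
noncomputable def cs_g {G : Type*} [Group G] (a : ℕ → G) : ℕ → G := fun x => slp a 4 cs_defs (cs_iota x)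

theorem cs_tabs {G α : Type*} [Group G] [MulAction G α] {e : ℕ → α} {a : ℕ → G} (h0 : Tabs e 24 cs_S a 4) : Tabs e 24 cs_T (cs_g a) 14 :=
  Tabs.rename (ι := cs_iota) (g := slp a 4 cs_defs) ((Tabs.slp_base cs_defs h0).slp_add (by decide) _ cs_slp0) cs_ren

theorem cs_gen {G : Type*} [Group G] (a : ℕ → G) : genLt (cs_g a) 14 = genLt a 4 :=
  genLt_slp_eq a cs_defs (back := getP 8 255 (nat_lit 0xc0a0806)) (by decide +kernel)

theorem cs_low5 {G α : Type*} [Group G] [MulAction G α] {e : ℕ → α} {a : ℕ → G} (he : Set.InjOn e (Set.Iio 24)) (h0 : Tabs e 24 cs_S a 4) :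
    LowLevel (genLt (cs_g a) 1) (genLt (cs_g a) 0) (e 5) 2 :=
  Tabs.lowLevel (cs_tabs h0) he (by decide) (by decide) (by decide) cs_L5_o

theorem cs_ge5 {G α : Type*} [Group G] [MulAction G α] {e : ℕ → α} {a : ℕ → G} (he : Set.InjOn e (Set.Iio 24)) (h0 : Tabs e 24 cs_S a 4) :
    Finite (genLt (cs_g a) 1) → 2 ≤ Nat.card (genLt (cs_g a) 1) := fun hK =>
  (cs_low5 he h0).card hK (one_le_card_fin _)

theorem cs_fix5 {G α : Type*} [Group G] [MulAction G α] {e : ℕ → α} {a : ℕ → G} (he : Set.InjOn e (Set.Iio 24)) (h0 : Tabs e 24 cs_S a 4) :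
    ∀ X : Subgroup G, Finite X → (genLt (cs_g a) 1) ≤ X → 2 * Nat.card (fixB e X [5]) ≤ Nat.card X :=
  (cs_low5 he h0).card_fix (card_fix_nil _ _)

theorem cs_low4 {G α : Type*} [Group G] [MulAction G α] {e : ℕ → α} {a : ℕ → G} (he : Set.InjOn e (Set.Iio 24)) (h0 : Tabs e 24 cs_S a 4) :
    LowLevel (genLt (cs_g a) 2) (genLt (cs_g a) 1) (e 4) 3 :=
  Tabs.lowLevel (cs_tabs h0) he (by decide) (by decide) (by decide) cs_L4_o

theorem cs_ge4 {G α : Type*} [Group G] [MulAction G α] {e : ℕ → α} {a : ℕ → G} (he : Set.InjOn e (Set.Iio 24)) (h0 : Tabs e 24 cs_S a 4) :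
    Finite (genLt (cs_g a) 2) → 6 ≤ Nat.card (genLt (cs_g a) 2) := fun hK =>
  (cs_low4 he h0).card hK (cs_ge5 he h0)

theorem cs_fix4 {G α : Type*} [Group G] [MulAction G α] {e : ℕ → α} {a : ℕ → G} (he : Set.InjOn e (Set.Iio 24)) (h0 : Tabs e 24 cs_S a 4) :
    ∀ X : Subgroup G, Finite X → (genLt (cs_g a) 2) ≤ X → 6 * Nat.card (fixB e X [4, 5]) ≤ Nat.card X :=
  (cs_low4 he h0).card_fix (cs_fix5 he h0)

theorem cs_low3 {G α : Type*} [Group G] [MulAction G α] {e : ℕ → α} {a : ℕ → G} (he : Set.InjOn e (Set.Iio 24)) (h0 : Tabs e 24 cs_S a 4) :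
    LowLevel (genLt (cs_g a) 3) (genLt (cs_g a) 2) (e 3) 3 :=
  Tabs.lowLevel (cs_tabs h0) he (by decide) (by decide) (by decide) cs_L3_o

theorem cs_ge3 {G α : Type*} [Group G] [MulAction G α] {e : ℕ → α} {a : ℕ → G} (he : Set.InjOn e (Set.Iio 24)) (h0 : Tabs e 24 cs_S a 4) :
    Finite (genLt (cs_g a) 3) → 18 ≤ Nat.card (genLt (cs_g a) 3) := fun hK =>
  (cs_low3 he h0).card hK (cs_ge4 he h0)

theorem cs_fix3 {G α : Type*} [Group G] [MulAction G α] {e : ℕ → α} {a : ℕ → G} (he : Set.InjOn e (Set.Iio 24)) (h0 : Tabs e 24 cs_S a 4) :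
    ∀ X : Subgroup G, Finite X → (genLt (cs_g a) 3) ≤ X → 18 * Nat.card (fixB e X [3, 4, 5]) ≤ Nat.card X :=
  (cs_low3 he h0).card_fix (cs_fix4 he h0)

theorem cs_low2 {G α : Type*} [Group G] [MulAction G α] {e : ℕ → α} {a : ℕ → G} (he : Set.InjOn e (Set.Iio 24)) (h0 : Tabs e 24 cs_S a 4) :
    LowLevel (genLt (cs_g a) 4) (genLt (cs_g a) 3) (e 2) 16 :=
  Tabs.lowLevel (cs_tabs h0) he (by decide) (by decide) (by decide) cs_L2_o

theorem cs_ge2 {G α : Type*} [Group G] [MulAction G α] {e : ℕ → α} {a : ℕ → G} (he : Set.InjOn e (Set.Iio 24)) (h0 : Tabs e 24 cs_S a 4) :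
    Finite (genLt (cs_g a) 4) → 288 ≤ Nat.card (genLt (cs_g a) 4) := fun hK =>
  (cs_low2 he h0).card hK (cs_ge3 he h0)

theorem cs_fix2 {G α : Type*} [Group G] [MulAction G α] {e : ℕ → α} {a : ℕ → G} (he : Set.InjOn e (Set.Iio 24)) (h0 : Tabs e 24 cs_S a 4) :
    ∀ X : Subgroup G, Finite X → (genLt (cs_g a) 4) ≤ X → 288 * Nat.card (fixB e X [2, 3, 4, 5]) ≤ Nat.card X :=
  (cs_low2 he h0).card_fix (cs_fix3 he h0)

theorem cs_low1 {G α : Type*} [Group G] [MulAction G α] {e : ℕ → α} {a : ℕ → G} (he : Set.InjOn e (Set.Iio 24)) (h0 : Tabs e 24 cs_S a 4) :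
    LowLevel (genLt (cs_g a) 6) (genLt (cs_g a) 4) (e 1) 20 :=
  Tabs.lowLevel (cs_tabs h0) he (by decide) (by decide) (by decide) cs_L1_o

theorem cs_ge1 {G α : Type*} [Group G] [MulAction G α] {e : ℕ → α} {a : ℕ → G} (he : Set.InjOn e (Set.Iio 24)) (h0 : Tabs e 24 cs_S a 4) :
    Finite (genLt (cs_g a) 6) → 5760 ≤ Nat.card (genLt (cs_g a) 6) := fun hK =>
  (cs_low1 he h0).card hK (cs_ge2 he h0)

theorem cs_fix1 {G α : Type*} [Group G] [MulAction G α] {e : ℕ → α} {a : ℕ → G} (he : Set.InjOn e (Set.Iio 24)) (h0 : Tabs e 24 cs_S a 4) :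
    ∀ X : Subgroup G, Finite X → (genLt (cs_g a) 6) ≤ X → 5760 * Nat.card (fixB e X [1, 2, 3, 4, 5]) ≤ Nat.card X :=
  (cs_low1 he h0).card_fix (cs_fix2 he h0)

theorem cs_low0 {G α : Type*} [Group G] [MulAction G α] {e : ℕ → α} {a : ℕ → G} (he : Set.InjOn e (Set.Iio 24)) (h0 : Tabs e 24 cs_S a 4) :
    LowLevel (genLt (cs_g a) 14) (genLt (cs_g a) 6) (e 0) 24 :=
  Tabs.lowLevel (cs_tabs h0) he (by decide) (by decide) (by decide) cs_L0_o

theorem cs_ge0 {G α : Type*} [Group G] [MulAction G α] {e : ℕ → α} {a : ℕ → G} (he : Set.InjOn e (Set.Iio 24)) (h0 : Tabs e 24 cs_S a 4) :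
    Finite (genLt (cs_g a) 14) → 138240 ≤ Nat.card (genLt (cs_g a) 14) := fun hK =>
  (cs_low0 he h0).card hK (cs_ge1 he h0)

theorem cs_fix0 {G α : Type*} [Group G] [MulAction G α] {e : ℕ → α} {a : ℕ → G} (he : Set.InjOn e (Set.Iio 24)) (h0 : Tabs e 24 cs_S a 4) :
    ∀ X : Subgroup G, Finite X → (genLt (cs_g a) 14) ≤ X → 138240 * Nat.card (fixB e X [0, 1, 2, 3, 4, 5]) ≤ Nat.card X :=
  (cs_low0 he h0).card_fix (cs_fix1 he h0)

theorem cs_ub0 {G α : Type*} [Group G] [MulAction G α] {e : ℕ → α} {a : ℕ → G} (he : Set.InjOn e (Set.Iio 24)) (h0 : Tabs e 24 cs_S a 4) (hub : Nat.card (genLt a 4) ≠ 0 ∧ Nat.card (genLt a 4) ≤ 138240) :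
    Nat.card (genLt (cs_g a) 14) ≠ 0 ∧ Nat.card (genLt (cs_g a) 14) ≤ 138240 := by rw [cs_gen]; exact hub

theorem cs_level0 {G α : Type*} [Group G] [MulAction G α] {e : ℕ → α} {a : ℕ → G} (he : Set.InjOn e (Set.Iio 24)) (h0 : Tabs e 24 cs_S a 4) (hub : Nat.card (genLt a 4) ≠ 0 ∧ Nat.card (genLt a 4) ≤ 138240) :
    Level (genLt (cs_g a) 14) (genLt (cs_g a) 6) (e 0) 24 :=
  ((cs_low0 he h0).level (c := 5760) (cs_ub0 he h0 hub) (cs_ge1 he h0)).1

theorem cs_ub1 {G α : Type*} [Group G] [MulAction G α] {e : ℕ → α} {a : ℕ → G} (he : Set.InjOn e (Set.Iio 24)) (h0 : Tabs e 24 cs_S a 4) (hub : Nat.card (genLt a 4) ≠ 0 ∧ Nat.card (genLt a 4) ≤ 138240) :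
    Nat.card (genLt (cs_g a) 6) ≠ 0 ∧ Nat.card (genLt (cs_g a) 6) ≤ 5760 :=
  ((cs_low0 he h0).level (c := 5760) (cs_ub0 he h0 hub) (cs_ge1 he h0)).2

theorem cs_level1 {G α : Type*} [Group G] [MulAction G α] {e : ℕ → α} {a : ℕ → G} (he : Set.InjOn e (Set.Iio 24)) (h0 : Tabs e 24 cs_S a 4) (hub : Nat.card (genLt a 4) ≠ 0 ∧ Nat.card (genLt a 4) ≤ 138240) :
    Level (genLt (cs_g a) 6) (genLt (cs_g a) 4) (e 1) 20 :=
  ((cs_low1 he h0).level (c := 288) (cs_ub1 he h0 hub) (cs_ge2 he h0)).1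

theorem cs_ub2 {G α : Type*} [Group G] [MulAction G α] {e : ℕ → α} {a : ℕ → G} (he : Set.InjOn e (Set.Iio 24)) (h0 : Tabs e 24 cs_S a 4) (hub : Nat.card (genLt a 4) ≠ 0 ∧ Nat.card (genLt a 4) ≤ 138240) :
    Nat.card (genLt (cs_g a) 4) ≠ 0 ∧ Nat.card (genLt (cs_g a) 4) ≤ 288 :=
  ((cs_low1 he h0).level (c := 288) (cs_ub1 he h0 hub) (cs_ge2 he h0)).2

theorem cs_level2 {G α : Type*} [Group G] [MulAction G α] {e : ℕ → α} {a : ℕ → G} (he : Set.InjOn e (Set.Iio 24)) (h0 : Tabs e 24 cs_S a 4) (hub : Nat.card (genLt a 4) ≠ 0 ∧ Nat.card (genLt a 4) ≤ 138240) :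
    Level (genLt (cs_g a) 4) (genLt (cs_g a) 3) (e 2) 16 :=
  ((cs_low2 he h0).level (c := 18) (cs_ub2 he h0 hub) (cs_ge3 he h0)).1

theorem cs_ub3 {G α : Type*} [Group G] [MulAction G α] {e : ℕ → α} {a : ℕ → G} (he : Set.InjOn e (Set.Iio 24)) (h0 : Tabs e 24 cs_S a 4) (hub : Nat.card (genLt a 4) ≠ 0 ∧ Nat.card (genLt a 4) ≤ 138240) :
    Nat.card (genLt (cs_g a) 3) ≠ 0 ∧ Nat.card (genLt (cs_g a) 3) ≤ 18 :=
  ((cs_low2 he h0).level (c := 18) (cs_ub2 he h0 hub) (cs_ge3 he h0)).2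

theorem cs_level3 {G α : Type*} [Group G] [MulAction G α] {e : ℕ → α} {a : ℕ → G} (he : Set.InjOn e (Set.Iio 24)) (h0 : Tabs e 24 cs_S a 4) (hub : Nat.card (genLt a 4) ≠ 0 ∧ Nat.card (genLt a 4) ≤ 138240) :
    Level (genLt (cs_g a) 3) (genLt (cs_g a) 2) (e 3) 3 :=
  ((cs_low3 he h0).level (c := 6) (cs_ub3 he h0 hub) (cs_ge4 he h0)).1

theorem cs_ub4 {G α : Type*} [Group G] [MulAction G α] {e : ℕ → α} {a : ℕ → G} (he : Set.InjOn e (Set.Iio 24)) (h0 : Tabs e 24 cs_S a 4) (hub : Nat.card (genLt a 4) ≠ 0 ∧ Nat.card (genLt a 4) ≤ 138240) :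
    Nat.card (genLt (cs_g a) 2) ≠ 0 ∧ Nat.card (genLt (cs_g a) 2) ≤ 6 :=
  ((cs_low3 he h0).level (c := 6) (cs_ub3 he h0 hub) (cs_ge4 he h0)).2

theorem cs_level4 {G α : Type*} [Group G] [MulAction G α] {e : ℕ → α} {a : ℕ → G} (he : Set.InjOn e (Set.Iio 24)) (h0 : Tabs e 24 cs_S a 4) (hub : Nat.card (genLt a 4) ≠ 0 ∧ Nat.card (genLt a 4) ≤ 138240) :
    Level (genLt (cs_g a) 2) (genLt (cs_g a) 1) (e 4) 3 :=
  ((cs_low4 he h0).level (c := 2) (cs_ub4 he h0 hub) (cs_ge5 he h0)).1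

theorem cs_ub5 {G α : Type*} [Group G] [MulAction G α] {e : ℕ → α} {a : ℕ → G} (he : Set.InjOn e (Set.Iio 24)) (h0 : Tabs e 24 cs_S a 4) (hub : Nat.card (genLt a 4) ≠ 0 ∧ Nat.card (genLt a 4) ≤ 138240) :
    Nat.card (genLt (cs_g a) 1) ≠ 0 ∧ Nat.card (genLt (cs_g a) 1) ≤ 2 :=
  ((cs_low4 he h0).level (c := 2) (cs_ub4 he h0 hub) (cs_ge5 he h0)).2

theorem cs_level5 {G α : Type*} [Group G] [MulAction G α] {e : ℕ → α} {a : ℕ → G} (he : Set.InjOn e (Set.Iio 24)) (h0 : Tabs e 24 cs_S a 4) (hub : Nat.card (genLt a 4) ≠ 0 ∧ Nat.card (genLt a 4) ≤ 138240) :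
    Level (genLt (cs_g a) 1) (genLt (cs_g a) 0) (e 5) 2 :=
  ((cs_low5 he h0).level (c := 1) (cs_ub5 he h0 hub) (one_le_card_fin _)).1

theorem cs_card5 {G α : Type*} [Group G] [MulAction G α] {e : ℕ → α} {a : ℕ → G} (he : Set.InjOn e (Set.Iio 24)) (h0 : Tabs e 24 cs_S a 4) (hub : Nat.card (genLt a 4) ≠ 0 ∧ Nat.card (genLt a 4) ≤ 138240) :
    Nat.card (genLt (cs_g a) 1) = 2 :=
  (cs_level5 he h0 hub).card (card_genLt_zero _)

theorem cs_base5 {G α : Type*} [Group G] [MulAction G α] {e : ℕ → α} {a : ℕ → G} (he : Set.InjOn e (Set.Iio 24)) (h0 : Tabs e 24 cs_S a 4) (hub : Nat.card (genLt a 4) ≠ 0 ∧ Nat.card (genLt a 4) ≤ 138240) :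
    IsBase e (genLt (cs_g a) 1) [5] :=
  (cs_level5 he h0 hub).base (isBase_genLt_zero _ _)

theorem cs_card4 {G α : Type*} [Group G] [MulAction G α] {e : ℕ → α} {a : ℕ → G} (he : Set.InjOn e (Set.Iio 24)) (h0 : Tabs e 24 cs_S a 4) (hub : Nat.card (genLt a 4) ≠ 0 ∧ Nat.card (genLt a 4) ≤ 138240) :
    Nat.card (genLt (cs_g a) 2) = 6 :=
  (cs_level4 he h0 hub).card (cs_card5 he h0 hub)

theorem cs_base4 {G α : Type*} [Group G] [MulAction G α] {e : ℕ → α} {a : ℕ → G} (he : Set.InjOn e (Set.Iio 24)) (h0 : Tabs e 24 cs_S a 4) (hub : Nat.card (genLt a 4) ≠ 0 ∧ Nat.card (genLt a 4) ≤ 138240) :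
    IsBase e (genLt (cs_g a) 2) [4, 5] :=
  (cs_level4 he h0 hub).base (cs_base5 he h0 hub)

theorem cs_card3 {G α : Type*} [Group G] [MulAction G α] {e : ℕ → α} {a : ℕ → G} (he : Set.InjOn e (Set.Iio 24)) (h0 : Tabs e 24 cs_S a 4) (hub : Nat.card (genLt a 4) ≠ 0 ∧ Nat.card (genLt a 4) ≤ 138240) :
    Nat.card (genLt (cs_g a) 3) = 18 :=
  (cs_level3 he h0 hub).card (cs_card4 he h0 hub)

theorem cs_base3 {G α : Type*} [Group G] [MulAction G α] {e : ℕ → α} {a : ℕ → G} (he : Set.InjOn e (Set.Iio 24)) (h0 : Tabs e 24 cs_S a 4) (hub : Nat.card (genLt a 4) ≠ 0 ∧ Nat.card (genLt a 4) ≤ 138240) :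
    IsBase e (genLt (cs_g a) 3) [3, 4, 5] :=
  (cs_level3 he h0 hub).base (cs_base4 he h0 hub)

theorem cs_card2 {G α : Type*} [Group G] [MulAction G α] {e : ℕ → α} {a : ℕ → G} (he : Set.InjOn e (Set.Iio 24)) (h0 : Tabs e 24 cs_S a 4) (hub : Nat.card (genLt a 4) ≠ 0 ∧ Nat.card (genLt a 4) ≤ 138240) :
    Nat.card (genLt (cs_g a) 4) = 288 :=
  (cs_level2 he h0 hub).card (cs_card3 he h0 hub)

theorem cs_base2 {G α : Type*} [Group G] [MulAction G α] {e : ℕ → α} {a : ℕ → G} (he : Set.InjOn e (Set.Iio 24)) (h0 : Tabs e 24 cs_S a 4) (hub : Nat.card (genLt a 4) ≠ 0 ∧ Nat.card (genLt a 4) ≤ 138240) :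
    IsBase e (genLt (cs_g a) 4) [2, 3, 4, 5] :=
  (cs_level2 he h0 hub).base (cs_base3 he h0 hub)

theorem cs_card1 {G α : Type*} [Group G] [MulAction G α] {e : ℕ → α} {a : ℕ → G} (he : Set.InjOn e (Set.Iio 24)) (h0 : Tabs e 24 cs_S a 4) (hub : Nat.card (genLt a 4) ≠ 0 ∧ Nat.card (genLt a 4) ≤ 138240) :
    Nat.card (genLt (cs_g a) 6) = 5760 :=
  (cs_level1 he h0 hub).card (cs_card2 he h0 hub)

theorem cs_base1 {G α : Type*} [Group G] [MulAction G α] {e : ℕ → α} {a : ℕ → G} (he : Set.InjOn e (Set.Iio 24)) (h0 : Tabs e 24 cs_S a 4) (hub : Nat.card (genLt a 4) ≠ 0 ∧ Nat.card (genLt a 4) ≤ 138240) :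
    IsBase e (genLt (cs_g a) 6) [1, 2, 3, 4, 5] :=
  (cs_level1 he h0 hub).base (cs_base2 he h0 hub)

theorem cs_card0 {G α : Type*} [Group G] [MulAction G α] {e : ℕ → α} {a : ℕ → G} (he : Set.InjOn e (Set.Iio 24)) (h0 : Tabs e 24 cs_S a 4) (hub : Nat.card (genLt a 4) ≠ 0 ∧ Nat.card (genLt a 4) ≤ 138240) :
    Nat.card (genLt (cs_g a) 14) = 138240 :=
  (cs_level0 he h0 hub).card (cs_card1 he h0 hub)

theorem cs_base0 {G α : Type*} [Group G] [MulAction G α] {e : ℕ → α} {a : ℕ → G} (he : Set.InjOn e (Set.Iio 24)) (h0 : Tabs e 24 cs_S a 4) (hub : Nat.card (genLt a 4) ≠ 0 ∧ Nat.card (genLt a 4) ≤ 138240) :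
    IsBase e (genLt (cs_g a) 14) [0, 1, 2, 3, 4, 5] :=
  (cs_level0 he h0 hub).base (cs_base1 he h0 hub)

theorem cs_hinv {G α : Type*} [Group G] [MulAction G α] {e : ℕ → α} {a : ℕ → G} (he : Set.InjOn e (Set.Iio 24)) (h0 : Tabs e 24 cs_S a 4) (hub : Nat.card (genLt a 4) ≠ 0 ∧ Nat.card (genLt a 4) ≤ 138240) : ∀ x < 14, cs_g a x * cs_g a (cs_inv x) = 1 :=
  (cs_tabs h0).hinv_of_base (cs_base0 he h0 hub) (by decide +kernel)

theorem cs_card {G α : Type*} [Group G] [MulAction G α] {e : ℕ → α} {a : ℕ → G} (he : Set.InjOn e (Set.Iio 24)) (h0 : Tabs e 24 cs_S a 4) (hub : Nat.card (genLt a 4) ≠ 0 ∧ Nat.card (genLt a 4) ≤ 138240) :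
    Nat.card (genLt a 4) = 138240 := by
  rw [← cs_gen]; exact cs_card0 he h0 hub

end Cfsg.Agent.Spor.J4C
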