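import Mathlib
import Cfsg.Agent.Spor.Comp.Pres

/-! Generated by tools/pg: stabiliser chain ct -/

set_option autoImplicit false
set_option maxRecDepth 100000
set_option linter.unusedVariables false
set_option exponentiation.threshold 100000

namespace Cfsg.Agent.Spor.J4C

open Cfsg.Agent.Spor

noncomputable def ct_S_t0 : BT :=
(.node (.node (.node (.node (.leaf (nat_lit 0x13473a1dea8b2ce0c004914c8add69))
 (.leaf (nat_lit 0xab14943871590f47ddb3b0a1231420))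
) (.node (.leaf (nat_lit 0xb96ad8aa703068c5c8433bec4425c0))
 (.leaf (nat_lit 0x71a4d7d4a89de8c4a9703da2418820))
)) (.node (.node (.leaf (nat_lit 0xa88288386f480e62ca748b1776d88a))
 (.leaf (nat_lit 0xb98856c9e78aa6c5b86885a9548820))
) (.leaf (nat_lit 0x51eec412055c9367d69368c4e89820))
)) (.node (.node (.node (.leaf (nat_lit 0x20ae84a8f384866281f46b1618daae))
 (.leaf (nat_lit 0x54ef6a122b2c9ac1d5074bcce80820))
) (.node (.leaf (nat_lit 0x92c23639163a9262d671a40576bc80))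
 (.leaf (nat_lit 0x94dd1b5e89354ac42a0b3bda418820))
)) (.node (.node (.leaf (nat_lit 0x241474dd0614873b39b17b161a16a0))
 (.leaf (nat_lit 0xad153b3a23311ac85ce9415f258820))
) (.leaf (nat_lit 0x75a519d68b7dca282909199a43b020))
)))

noncomputable def ct_S_t : BT :=
ct_S_t0

noncomputable def ct_S : ℕ → ℕ → ℕ := fun x i => Nat.land (Nat.shiftRight (BT.get ct_S_t x) (Nat.mul (nat_lit 5) i)) (nat_lit 31)

noncomputable def ct_defs : LT :=
(.node (.node (.node (.node (.leaf [nat_lit 0])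
 (.leaf [nat_lit 1,nat_lit 6])
) (.node (.leaf [nat_lit 0,nat_lit 2,nat_lit 0,nat_lit 1,nat_lit 1,nat_lit 0,nat_lit 1])
 (.leaf [nat_lit 0,nat_lit 9,nat_lit 10,nat_lit 11])
)) (.node (.node (.leaf [nat_lit 1,nat_lit 1])
 (.leaf [nat_lit 0,nat_lit 8,nat_lit 7,nat_lit 6])
) (.leaf [nat_lit 0,nat_lit 5,nat_lit 5,nat_lit 5,nat_lit 4])
)) (.node (.node (.node (.leaf [nat_lit 0])
 (.leaf [nat_lit 0,nat_lit 6,nat_lit 7,nat_lit 8,nat_lit 8,nat_lit 8,nat_lit 7])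
) (.node (.leaf [nat_lit 1,nat_lit 3])
 (.leaf [nat_lit 0,nat_lit 11,nat_lit 10,nat_lit 11,nat_lit 10])
)) (.node (.node (.leaf [nat_lit 0,nat_lit 1,nat_lit 0,nat_lit 1,nat_lit 1,nat_lit 0])
 (.leaf [nat_lit 1,nat_lit 9])
) (.leaf [nat_lit 0,nat_lit 3,nat_lit 4,nat_lit 5])
)))
noncomputable def ct_iota : ℕ → ℕ := getP (nat_lit 8) (nat_lit 255) (nat_lit 0x201000408060a0d0c)
noncomputable def ct_inv : ℕ → ℕ := getP (nat_lit 8) (nat_lit 255) (nat_lit 0x70806050304020100)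
noncomputable def ct_hws : LT := .leaf []

noncomputable def ct_T_t0 : BT :=
(.node (.node (.node (.node (.leaf (nat_lit 0x71a4d7d4a89de8c4a9703da2418820))
 (.leaf (nat_lit 0xa88288386f480e62ca748b1776d88a))
) (.leaf (nat_lit 0xab14943871590f47ddb3b0a1231420))
) (.node (.leaf (nat_lit 0xb98856c9e78aa6c5b86885a9548820))
 (.leaf (nat_lit 0x13473a1dea8b2ce0c004914c8add69))
)) (.node (.node (.leaf (nat_lit 0x94dd1b5e89354ac42a0b3bda418820))
 (.leaf (nat_lit 0xb96ad8aa703068c5c8433bec4425c0))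
) (.node (.leaf (nat_lit 0x51eec412055c9367d69368c4e89820))
 (.leaf (nat_lit 0x20ae84a8f384866281f46b1618daae))
)))

noncomputable def ct_T_t : BT :=
ct_T_t0

noncomputable def ct_T : ℕ → ℕ → ℕ := fun x i => Nat.land (Nat.shiftRight (BT.get ct_T_t x) (Nat.mul (nat_lit 5) i)) (nat_lit 31)

noncomputable def ct_E_t0 : BT :=
(.node (.node (.node (.leaf (nat_lit 0x60101980b0460ec1201b0161082181b0660081d0340180500e04303604c1582900))
 (.leaf (nat_lit 0x3010000010000000000100800000000000000000008000000000000000))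
) (.leaf (nat_lit 0xc00003028020018030360200180c03808002014008088110180060840000000))
) (.node (.leaf (nat_lit 0x60000180800000c100000000081400000000c08000000000000030300000080000))
 (.leaf (nat_lit 0x30100000000000600001014018040000000020000000000))
))

noncomputable def ct_E_t : BT :=
ct_E_t0

noncomputable def ct_E : ℕ → ℕ → ℕ := fun x i => Nat.land (Nat.shiftRight (BT.get ct_E_t x) (Nat.mul (nat_lit 11) i)) (nat_lit 2047)

theorem ct_slp0 : allLt (nat_lit 12) (fun i => force (Nat.add (nat_lit 2) i) (slpOK ct_S ct_defs (nat_lit 24))) = true := by decide +kernel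

theorem ct_ren : allLt (nat_lit 9) (fun x => force (ct_iota x) fun y => band (blt y (nat_lit 14)) (allRange (nat_lit 0) (nat_lit 24) fun i => Nat.beq (ct_S y i) (ct_T x i))) = true := by decide +kernel

theorem ct_L4_o : band (allRange (nat_lit 0) (nat_lit 24) (orbOK ct_T (nat_lit 2) (ct_E (nat_lit 4)) (Nat.beq (nat_lit 5)))) (band (Nat.ble (nat_lit 4) (count2 (nat_lit 24) fun p => Nat.ble 256 (ct_E (nat_lit 4) p))) (allLt (nat_lit 0) (fun x => Nat.beq (ct_T x (nat_lit 5)) (nat_lit 5)))) = true := by decide +kernel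

theorem ct_L3_o : band (allRange (nat_lit 0) (nat_lit 24) (orbOK ct_T (nat_lit 3) (ct_E (nat_lit 3)) (Nat.beq (nat_lit 3)))) (band (Nat.ble (nat_lit 6) (count2 (nat_lit 24) fun p => Nat.ble 256 (ct_E (nat_lit 3) p))) (allLt (nat_lit 2) (fun x => Nat.beq (ct_T x (nat_lit 3)) (nat_lit 3)))) = true := by decide +kernel

theorem ct_L2_o : band (allRange (nat_lit 0) (nat_lit 24) (orbOK ct_T (nat_lit 5) (ct_E (nat_lit 2)) (Nat.beq (nat_lit 2)))) (band (Nat.ble (nat_lit 16) (count2 (nat_lit 24) fun p => Nat.ble 256 (ct_E (nat_lit 2) p))) (allLt (nat_lit 3) (fun x => Nat.beq (ct_T x (nat_lit 2)) (nat_lit 2)))) = true := by decide +kernel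

theorem ct_L1_o : band (allRange (nat_lit 0) (nat_lit 24) (orbOK ct_T (nat_lit 6) (ct_E (nat_lit 1)) (Nat.beq (nat_lit 1)))) (band (Nat.ble (nat_lit 7) (count2 (nat_lit 24) fun p => Nat.ble 256 (ct_E (nat_lit 1) p))) (allLt (nat_lit 5) (fun x => Nat.beq (ct_T x (nat_lit 1)) (nat_lit 1)))) = true := by decide +kernel

theorem ct_L0_o : band (allRange (nat_lit 0) (nat_lit 24) (orbOK ct_T (nat_lit 9) (ct_E (nat_lit 0)) (Nat.beq (nat_lit 0)))) (band (Nat.ble (nat_lit 24) (count2 (nat_lit 24) fun p => Nat.ble 256 (ct_E (nat_lit 0) p))) (allLt (nat_lit 6) (fun x => Nat.beq (ct_T x (nat_lit 0)) (nat_lit 0)))) = true := by decide +kernel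

/-- The letters: a strong generating set, deepest stabiliser first. -/
noncomputable def ct_g {G : Type*} [Group G] (a : ℕ → G) : ℕ → G := fun x => slp a 2 ct_defs (ct_iota x)

theorem ct_tabs {G α : Type*} [Group G] [MulAction G α] {e : ℕ → α} {a : ℕ → G} (h0 : Tabs e 24 ct_S a 2) : Tabs e 24 ct_T (ct_g a) 9 :=
  Tabs.rename (ι := ct_iota) (g := slp a 2 ct_defs) ((Tabs.slp_base ct_defs h0).slp_add (by decide) _ ct_slp0) ct_ren

theorem ct_gen {G : Type*} [Group G] (a : ℕ → G) : genLt (ct_g a) 9 = genLt a 2 :=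
  genLt_slp_eq a ct_defs (back := getP 8 255 (nat_lit 0x706)) (by decide +kernel)

theorem ct_low4 {G α : Type*} [Group G] [MulAction G α] {e : ℕ → α} {a : ℕ → G} (he : Set.InjOn e (Set.Iio 24)) (h0 : Tabs e 24 ct_S a 2) :
    LowLevel (genLt (ct_g a) 2) (genLt (ct_g a) 0) (e 5) 4 :=
  Tabs.lowLevel (ct_tabs h0) he (by decide) (by decide) (by decide) ct_L4_o

theorem ct_ge4 {G α : Type*} [Group G] [MulAction G α] {e : ℕ → α} {a : ℕ → G} (he : Set.InjOn e (Set.Iio 24)) (h0 : Tabs e 24 ct_S a 2) :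
    Finite (genLt (ct_g a) 2) → 4 ≤ Nat.card (genLt (ct_g a) 2) := fun hK =>
  (ct_low4 he h0).card hK (one_le_card_fin _)

theorem ct_fix4 {G α : Type*} [Group G] [MulAction G α] {e : ℕ → α} {a : ℕ → G} (he : Set.InjOn e (Set.Iio 24)) (h0 : Tabs e 24 ct_S a 2) :
    ∀ X : Subgroup G, Finite X → (genLt (ct_g a) 2) ≤ X → 4 * Nat.card (fixB e X [5]) ≤ Nat.card X :=
  (ct_low4 he h0).card_fix (card_fix_nil _ _)

theorem ct_low3 {G α : Type*} [Group G] [MulAction G α] {e : ℕ → α} {a : ℕ → G} (he : Set.InjOn e (Set.Iio 24)) (h0 : Tabs e 24 ct_S a 2) :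
    LowLevel (genLt (ct_g a) 3) (genLt (ct_g a) 2) (e 3) 6 :=
  Tabs.lowLevel (ct_tabs h0) he (by decide) (by decide) (by decide) ct_L3_o

theorem ct_ge3 {G α : Type*} [Group G] [MulAction G α] {e : ℕ → α} {a : ℕ → G} (he : Set.InjOn e (Set.Iio 24)) (h0 : Tabs e 24 ct_S a 2) :
    Finite (genLt (ct_g a) 3) → 24 ≤ Nat.card (genLt (ct_g a) 3) := fun hK =>
  (ct_low3 he h0).card hK (ct_ge4 he h0)

theorem ct_fix3 {G α : Type*} [Group G] [MulAction G α] {e : ℕ → α} {a : ℕ → G} (he : Set.InjOn e (Set.Iio 24)) (h0 : Tabs e 24 ct_S a 2) :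
    ∀ X : Subgroup G, Finite X → (genLt (ct_g a) 3) ≤ X → 24 * Nat.card (fixB e X [3, 5]) ≤ Nat.card X :=
  (ct_low3 he h0).card_fix (ct_fix4 he h0)

theorem ct_low2 {G α : Type*} [Group G] [MulAction G α] {e : ℕ → α} {a : ℕ → G} (he : Set.InjOn e (Set.Iio 24)) (h0 : Tabs e 24 ct_S a 2) :
    LowLevel (genLt (ct_g a) 5) (genLt (ct_g a) 3) (e 2) 16 :=
  Tabs.lowLevel (ct_tabs h0) he (by decide) (by decide) (by decide) ct_L2_o

theorem ct_ge2 {G α : Type*} [Group G] [MulAction G α] {e : ℕ → α} {a : ℕ → G} (he : Set.InjOn e (Set.Iio 24)) (h0 : Tabs e 24 ct_S a 2) :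
    Finite (genLt (ct_g a) 5) → 384 ≤ Nat.card (genLt (ct_g a) 5) := fun hK =>
  (ct_low2 he h0).card hK (ct_ge3 he h0)

theorem ct_fix2 {G α : Type*} [Group G] [MulAction G α] {e : ℕ → α} {a : ℕ → G} (he : Set.InjOn e (Set.Iio 24)) (h0 : Tabs e 24 ct_S a 2) :
    ∀ X : Subgroup G, Finite X → (genLt (ct_g a) 5) ≤ X → 384 * Nat.card (fixB e X [2, 3, 5]) ≤ Nat.card X :=
  (ct_low2 he h0).card_fix (ct_fix3 he h0)

theorem ct_low1 {G α : Type*} [Group G] [MulAction G α] {e : ℕ → α} {a : ℕ → G} (he : Set.InjOn e (Set.Iio 24)) (h0 : Tabs e 24 ct_S a 2) :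
    LowLevel (genLt (ct_g a) 6) (genLt (ct_g a) 5) (e 1) 7 :=
  Tabs.lowLevel (ct_tabs h0) he (by decide) (by decide) (by decide) ct_L1_o

theorem ct_ge1 {G α : Type*} [Group G] [MulAction G α] {e : ℕ → α} {a : ℕ → G} (he : Set.InjOn e (Set.Iio 24)) (h0 : Tabs e 24 ct_S a 2) :
    Finite (genLt (ct_g a) 6) → 2688 ≤ Nat.card (genLt (ct_g a) 6) := fun hK =>
  (ct_low1 he h0).card hK (ct_ge2 he h0)

theorem ct_fix1 {G α : Type*} [Group G] [MulAction G α] {e : ℕ → α} {a : ℕ → G} (he : Set.InjOn e (Set.Iio 24)) (h0 : Tabs e 24 ct_S a 2) :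
    ∀ X : Subgroup G, Finite X → (genLt (ct_g a) 6) ≤ X → 2688 * Nat.card (fixB e X [1, 2, 3, 5]) ≤ Nat.card X :=
  (ct_low1 he h0).card_fix (ct_fix2 he h0)

theorem ct_low0 {G α : Type*} [Group G] [MulAction G α] {e : ℕ → α} {a : ℕ → G} (he : Set.InjOn e (Set.Iio 24)) (h0 : Tabs e 24 ct_S a 2) :
    LowLevel (genLt (ct_g a) 9) (genLt (ct_g a) 6) (e 0) 24 :=
  Tabs.lowLevel (ct_tabs h0) he (by decide) (by decide) (by decide) ct_L0_o

theorem ct_ge0 {G α : Type*} [Group G] [MulAction G α] {e : ℕ → α} {a : ℕ → G} (he : Set.InjOn e (Set.Iio 24)) (h0 : Tabs e 24 ct_S a 2) :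
    Finite (genLt (ct_g a) 9) → 64512 ≤ Nat.card (genLt (ct_g a) 9) := fun hK =>
  (ct_low0 he h0).card hK (ct_ge1 he h0)

theorem ct_fix0 {G α : Type*} [Group G] [MulAction G α] {e : ℕ → α} {a : ℕ → G} (he : Set.InjOn e (Set.Iio 24)) (h0 : Tabs e 24 ct_S a 2) :
    ∀ X : Subgroup G, Finite X → (genLt (ct_g a) 9) ≤ X → 64512 * Nat.card (fixB e X [0, 1, 2, 3, 5]) ≤ Nat.card X :=
  (ct_low0 he h0).card_fix (ct_fix1 he h0)

theorem ct_ub0 {G α : Type*} [Group G] [MulAction G α] {e : ℕ → α} {a : ℕ → G} (he : Set.InjOn e (Set.Iio 24)) (h0 : Tabs e 24 ct_S a 2) (hub : Nat.card (genLt a 2) ≠ 0 ∧ Nat.card (genLt a 2) ≤ 64512) :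
    Nat.card (genLt (ct_g a) 9) ≠ 0 ∧ Nat.card (genLt (ct_g a) 9) ≤ 64512 := by rw [ct_gen]; exact hub

theorem ct_level0 {G α : Type*} [Group G] [MulAction G α] {e : ℕ → α} {a : ℕ → G} (he : Set.InjOn e (Set.Iio 24)) (h0 : Tabs e 24 ct_S a 2) (hub : Nat.card (genLt a 2) ≠ 0 ∧ Nat.card (genLt a 2) ≤ 64512) :
    Level (genLt (ct_g a) 9) (genLt (ct_g a) 6) (e 0) 24 :=
  ((ct_low0 he h0).level (c := 2688) (ct_ub0 he h0 hub) (ct_ge1 he h0)).1

theorem ct_ub1 {G α : Type*} [Group G] [MulAction G α] {e : ℕ → α} {a : ℕ → G} (he : Set.InjOn e (Set.Iio 24)) (h0 : Tabs e 24 ct_S a 2) (hub : Nat.card (genLt a 2) ≠ 0 ∧ Nat.card (genLt a 2) ≤ 64512) :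
    Nat.card (genLt (ct_g a) 6) ≠ 0 ∧ Nat.card (genLt (ct_g a) 6) ≤ 2688 :=
  ((ct_low0 he h0).level (c := 2688) (ct_ub0 he h0 hub) (ct_ge1 he h0)).2

theorem ct_level1 {G α : Type*} [Group G] [MulAction G α] {e : ℕ → α} {a : ℕ → G} (he : Set.InjOn e (Set.Iio 24)) (h0 : Tabs e 24 ct_S a 2) (hub : Nat.card (genLt a 2) ≠ 0 ∧ Nat.card (genLt a 2) ≤ 64512) :
    Level (genLt (ct_g a) 6) (genLt (ct_g a) 5) (e 1) 7 :=
  ((ct_low1 he h0).level (c := 384) (ct_ub1 he h0 hub) (ct_ge2 he h0)).1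

theorem ct_ub2 {G α : Type*} [Group G] [MulAction G α] {e : ℕ → α} {a : ℕ → G} (he : Set.InjOn e (Set.Iio 24)) (h0 : Tabs e 24 ct_S a 2) (hub : Nat.card (genLt a 2) ≠ 0 ∧ Nat.card (genLt a 2) ≤ 64512) :
    Nat.card (genLt (ct_g a) 5) ≠ 0 ∧ Nat.card (genLt (ct_g a) 5) ≤ 384 :=
  ((ct_low1 he h0).level (c := 384) (ct_ub1 he h0 hub) (ct_ge2 he h0)).2

theorem ct_level2 {G α : Type*} [Group G] [MulAction G α] {e : ℕ → α} {a : ℕ → G} (he : Set.InjOn e (Set.Iio 24)) (h0 : Tabs e 24 ct_S a 2) (hub : Nat.card (genLt a 2) ≠ 0 ∧ Nat.card (genLt a 2) ≤ 64512) :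
    Level (genLt (ct_g a) 5) (genLt (ct_g a) 3) (e 2) 16 :=
  ((ct_low2 he h0).level (c := 24) (ct_ub2 he h0 hub) (ct_ge3 he h0)).1

theorem ct_ub3 {G α : Type*} [Group G] [MulAction G α] {e : ℕ → α} {a : ℕ → G} (he : Set.InjOn e (Set.Iio 24)) (h0 : Tabs e 24 ct_S a 2) (hub : Nat.card (genLt a 2) ≠ 0 ∧ Nat.card (genLt a 2) ≤ 64512) :
    Nat.card (genLt (ct_g a) 3) ≠ 0 ∧ Nat.card (genLt (ct_g a) 3) ≤ 24 :=
  ((ct_low2 he h0).level (c := 24) (ct_ub2 he h0 hub) (ct_ge3 he h0)).2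

theorem ct_level3 {G α : Type*} [Group G] [MulAction G α] {e : ℕ → α} {a : ℕ → G} (he : Set.InjOn e (Set.Iio 24)) (h0 : Tabs e 24 ct_S a 2) (hub : Nat.card (genLt a 2) ≠ 0 ∧ Nat.card (genLt a 2) ≤ 64512) :
    Level (genLt (ct_g a) 3) (genLt (ct_g a) 2) (e 3) 6 :=
  ((ct_low3 he h0).level (c := 4) (ct_ub3 he h0 hub) (ct_ge4 he h0)).1

theorem ct_ub4 {G α : Type*} [Group G] [MulAction G α] {e : ℕ → α} {a : ℕ → G} (he : Set.InjOn e (Set.Iio 24)) (h0 : Tabs e 24 ct_S a 2) (hub : Nat.card (genLt a 2) ≠ 0 ∧ Nat.card (genLt a 2) ≤ 64512) :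
    Nat.card (genLt (ct_g a) 2) ≠ 0 ∧ Nat.card (genLt (ct_g a) 2) ≤ 4 :=
  ((ct_low3 he h0).level (c := 4) (ct_ub3 he h0 hub) (ct_ge4 he h0)).2

theorem ct_level4 {G α : Type*} [Group G] [MulAction G α] {e : ℕ → α} {a : ℕ → G} (he : Set.InjOn e (Set.Iio 24)) (h0 : Tabs e 24 ct_S a 2) (hub : Nat.card (genLt a 2) ≠ 0 ∧ Nat.card (genLt a 2) ≤ 64512) :
    Level (genLt (ct_g a) 2) (genLt (ct_g a) 0) (e 5) 4 :=
  ((ct_low4 he h0).level (c := 1) (ct_ub4 he h0 hub) (one_le_card_fin _)).1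

theorem ct_card4 {G α : Type*} [Group G] [MulAction G α] {e : ℕ → α} {a : ℕ → G} (he : Set.InjOn e (Set.Iio 24)) (h0 : Tabs e 24 ct_S a 2) (hub : Nat.card (genLt a 2) ≠ 0 ∧ Nat.card (genLt a 2) ≤ 64512) :
    Nat.card (genLt (ct_g a) 2) = 4 :=
  (ct_level4 he h0 hub).card (card_genLt_zero _)

theorem ct_base4 {G α : Type*} [Group G] [MulAction G α] {e : ℕ → α} {a : ℕ → G} (he : Set.InjOn e (Set.Iio 24)) (h0 : Tabs e 24 ct_S a 2) (hub : Nat.card (genLt a 2) ≠ 0 ∧ Nat.card (genLt a 2) ≤ 64512) :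
    IsBase e (genLt (ct_g a) 2) [5] :=
  (ct_level4 he h0 hub).base (isBase_genLt_zero _ _)

theorem ct_card3 {G α : Type*} [Group G] [MulAction G α] {e : ℕ → α} {a : ℕ → G} (he : Set.InjOn e (Set.Iio 24)) (h0 : Tabs e 24 ct_S a 2) (hub : Nat.card (genLt a 2) ≠ 0 ∧ Nat.card (genLt a 2) ≤ 64512) :
    Nat.card (genLt (ct_g a) 3) = 24 :=
  (ct_level3 he h0 hub).card (ct_card4 he h0 hub)

theorem ct_base3 {G α : Type*} [Group G] [MulAction G α] {e : ℕ → α} {a : ℕ → G} (he : Set.InjOn e (Set.Iio 24)) (h0 : Tabs e 24 ct_S a 2) (hub : Nat.card (genLt a 2) ≠ 0 ∧ Nat.card (genLt a 2) ≤ 64512) :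
    IsBase e (genLt (ct_g a) 3) [3, 5] :=
  (ct_level3 he h0 hub).base (ct_base4 he h0 hub)

theorem ct_card2 {G α : Type*} [Group G] [MulAction G α] {e : ℕ → α} {a : ℕ → G} (he : Set.InjOn e (Set.Iio 24)) (h0 : Tabs e 24 ct_S a 2) (hub : Nat.card (genLt a 2) ≠ 0 ∧ Nat.card (genLt a 2) ≤ 64512) :
    Nat.card (genLt (ct_g a) 5) = 384 :=
  (ct_level2 he h0 hub).card (ct_card3 he h0 hub)

theorem ct_base2 {G α : Type*} [Group G] [MulAction G α] {e : ℕ → α} {a : ℕ → G} (he : Set.InjOn e (Set.Iio 24)) (h0 : Tabs e 24 ct_S a 2) (hub : Nat.card (genLt a 2) ≠ 0 ∧ Nat.card (genLt a 2) ≤ 64512) :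
    IsBase e (genLt (ct_g a) 5) [2, 3, 5] :=
  (ct_level2 he h0 hub).base (ct_base3 he h0 hub)

theorem ct_card1 {G α : Type*} [Group G] [MulAction G α] {e : ℕ → α} {a : ℕ → G} (he : Set.InjOn e (Set.Iio 24)) (h0 : Tabs e 24 ct_S a 2) (hub : Nat.card (genLt a 2) ≠ 0 ∧ Nat.card (genLt a 2) ≤ 64512) :
    Nat.card (genLt (ct_g a) 6) = 2688 :=
  (ct_level1 he h0 hub).card (ct_card2 he h0 hub)

theorem ct_base1 {G α : Type*} [Group G] [MulAction G α] {e : ℕ → α} {a : ℕ → G} (he : Set.InjOn e (Set.Iio 24)) (h0 : Tabs e 24 ct_S a 2) (hub : Nat.card (genLt a 2) ≠ 0 ∧ Nat.card (genLt a 2) ≤ 64512) :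
    IsBase e (genLt (ct_g a) 6) [1, 2, 3, 5] :=
  (ct_level1 he h0 hub).base (ct_base2 he h0 hub)

theorem ct_card0 {G α : Type*} [Group G] [MulAction G α] {e : ℕ → α} {a : ℕ → G} (he : Set.InjOn e (Set.Iio 24)) (h0 : Tabs e 24 ct_S a 2) (hub : Nat.card (genLt a 2) ≠ 0 ∧ Nat.card (genLt a 2) ≤ 64512) :
    Nat.card (genLt (ct_g a) 9) = 64512 :=
  (ct_level0 he h0 hub).card (ct_card1 he h0 hub)

theorem ct_base0 {G α : Type*} [Group G] [MulAction G α] {e : ℕ → α} {a : ℕ → G} (he : Set.InjOn e (Set.Iio 24)) (h0 : Tabs e 24 ct_S a 2) (hub : Nat.card (genLt a 2) ≠ 0 ∧ Nat.card (genLt a 2) ≤ 64512) :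
    IsBase e (genLt (ct_g a) 9) [0, 1, 2, 3, 5] :=
  (ct_level0 he h0 hub).base (ct_base1 he h0 hub)

theorem ct_hinv {G α : Type*} [Group G] [MulAction G α] {e : ℕ → α} {a : ℕ → G} (he : Set.InjOn e (Set.Iio 24)) (h0 : Tabs e 24 ct_S a 2) (hub : Nat.card (genLt a 2) ≠ 0 ∧ Nat.card (genLt a 2) ≤ 64512) : ∀ x < 9, ct_g a x * ct_g a (ct_inv x) = 1 :=
  (ct_tabs h0).hinv_of_base (ct_base0 he h0 hub) (by decide +kernel)

theorem ct_card {G α : Type*} [Group G] [MulAction G α] {e : ℕ → α} {a : ℕ → G} (he : Set.InjOn e (Set.Iio 24)) (h0 : Tabs e 24 ct_S a 2) (hub : Nat.card (genLt a 2) ≠ 0 ∧ Nat.card (genLt a 2) ≤ 64512) :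
    Nat.card (genLt a 2) = 64512 := by
  rw [← ct_gen]; exact ct_card0 he h0 hub

end Cfsg.Agent.Spor.J4C
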