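import Mathlib
import Cfsg.Agent.Spor.Comp.Pres

/-! Generated by tools/pg: stabiliser chain cm -/

set_option autoImplicit false
set_option maxRecDepth 100000
set_option linter.unusedVariables false
set_option exponentiation.threshold 100000

namespace Cfsg.Agent.Spor.J4C

open Cfsg.Agent.Spor

noncomputable def cm_S_t0 : BT :=
(.node (.node (.node (.node (.node (.leaf (nat_lit 0x13473a1dea8b2ce0c004914c8add69))
 (.leaf (nat_lit 0x5be54bb53129aaa99e0e622c418820))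
) (.leaf (nat_lit 0x68ed5850ce9ad2552191b8a4f39020))
) (.node (.node (.leaf (nat_lit 0x64873bc4b5a05e7341024a88db3960))
 (.leaf (nat_lit 0x7acae6de759222a49ed461a0418820))
) (.leaf (nat_lit 0x8d54c81dcf9dc896da88348ab18820))
)) (.node (.node (.node (.leaf (nat_lit 0x3daaa9be448a1c65812d184a2bc194))
 (.leaf (nat_lit 0x926088bda5bd267b316e51aa418820))
) (.leaf (nat_lit 0x75a95434af85e4a5b13321a2718820))
) (.node (.node (.leaf (nat_lit 0x98e0fa5a4a68897098e962e25aa1c0))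
 (.leaf (nat_lit 0x7520f4cee6b450a69e4b654a418820))
) (.leaf (nat_lit 0x72ac979af3845742558891cad18820))
))) (.node (.node (.node (.node (.leaf (nat_lit 0x1daa09c5e2935015d12ebb0b0390ca))
 (.leaf (nat_lit 0x8adb2452ef816acb28d33a5c418820))
) (.leaf (nat_lit 0x1a245aa54f89e7635dcb6d19020820))
) (.node (.node (.leaf (nat_lit 0x41254488f38adb62de0a799cc1d420))
 (.leaf (nat_lit 0x8bcd6925d5a5d674326d540a418820))
) (.leaf (nat_lit 0x6251393c95a2a05346cdbacee18820))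
)) (.node (.node (.node (.leaf (nat_lit 0x53054855e9395a472277899761c820))
 (.leaf (nat_lit 0x995b45d609b2247bb226539e418820))
) (.leaf (nat_lit 0x532666d5e4824e54465672e83b8820))
) (.node (.leaf (nat_lit 0x3d69279513242e972daa1c582b1820))
 (.leaf (nat_lit 0x3a60fa4d4d9111733ad52ad9118820))
))))

noncomputable def cm_S_t : BT :=
cm_S_t0

noncomputable def cm_S : ℕ → ℕ → ℕ := fun x i => Nat.land (Nat.shiftRight (BT.get cm_S_t x) (Nat.mul (nat_lit 5) i)) (nat_lit 31)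

noncomputable def cm_defs : LT :=
(.node (.node (.node (.node (.node (.leaf [nat_lit 0])
 (.leaf [nat_lit 0,nat_lit 15,nat_lit 12,nat_lit 15])
) (.leaf [nat_lit 1,nat_lit 7])
) (.node (.node (.leaf [nat_lit 0,nat_lit 2,nat_lit 0,nat_lit 2,nat_lit 0,nat_lit 1,nat_lit 0,nat_lit 1,nat_lit 0,nat_lit 1,nat_lit 0,nat_lit 2,nat_lit 0,nat_lit 1,nat_lit 0,nat_lit 1])
 (.leaf [nat_lit 1,nat_lit 18])
) (.leaf [nat_lit 0,nat_lit 9,nat_lit 9,nat_lit 10,nat_lit 9,nat_lit 10,nat_lit 11,nat_lit 11,nat_lit 11])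
)) (.node (.node (.node (.leaf [nat_lit 1,nat_lit 1])
 (.leaf [nat_lit 0,nat_lit 12,nat_lit 13,nat_lit 12,nat_lit 15,nat_lit 14])
) (.leaf [nat_lit 0,nat_lit 8,nat_lit 8,nat_lit 8,nat_lit 5,nat_lit 8,nat_lit 5,nat_lit 7,nat_lit 7])
) (.node (.node (.leaf [nat_lit 1,nat_lit 4])
 (.leaf [nat_lit 1,nat_lit 21])
) (.leaf [nat_lit 1,nat_lit 12])
))) (.node (.node (.node (.node (.leaf [nat_lit 0])
 (.leaf [nat_lit 0,nat_lit 14,nat_lit 15,nat_lit 15,nat_lit 12])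
) (.leaf [nat_lit 0,nat_lit 7,nat_lit 5,nat_lit 8,nat_lit 5])
) (.node (.node (.leaf [nat_lit 1,nat_lit 3])
 (.leaf [nat_lit 0,nat_lit 16,nat_lit 17,nat_lit 20])
) (.leaf [nat_lit 0,nat_lit 11,nat_lit 10,nat_lit 9,nat_lit 10,nat_lit 11])
)) (.node (.node (.node (.leaf [nat_lit 0,nat_lit 0,nat_lit 2,nat_lit 0])
 (.leaf [nat_lit 1,nat_lit 16])
) (.leaf [nat_lit 1,nat_lit 9])
) (.node (.leaf [nat_lit 0,nat_lit 6,nat_lit 5,nat_lit 6])
 (.leaf [nat_lit 1,nat_lit 13])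
))))
noncomputable def cm_iota : ℕ → ℕ := getP (nat_lit 8) (nat_lit 255) (nat_lit 0x20100060405030b090e0c1310111615)
noncomputable def cm_inv : ℕ → ℕ := getP (nat_lit 8) (nat_lit 255) (nat_lit 0xe0f0d0b0c090a070805060304020001)
noncomputable def cm_hws : LT := .leaf []

noncomputable def cm_T_t0 : BT :=
(.node (.node (.node (.node (.leaf (nat_lit 0x8bcd6925d5a5d674326d540a418820))
 (.leaf (nat_lit 0x532666d5e4824e54465672e83b8820))
) (.node (.leaf (nat_lit 0x995b45d609b2247bb226539e418820))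
 (.leaf (nat_lit 0x98e0fa5a4a68897098e962e25aa1c0))
)) (.node (.node (.leaf (nat_lit 0x8adb2452ef816acb28d33a5c418820))
 (.leaf (nat_lit 0x41254488f38adb62de0a799cc1d420))
) (.node (.leaf (nat_lit 0x72ac979af3845742558891cad18820))
 (.leaf (nat_lit 0x1daa09c5e2935015d12ebb0b0390ca))
))) (.node (.node (.node (.leaf (nat_lit 0x7520f4cee6b450a69e4b654a418820))
 (.leaf (nat_lit 0x53054855e9395a472277899761c820))
) (.node (.leaf (nat_lit 0x8d54c81dcf9dc896da88348ab18820))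
 (.leaf (nat_lit 0x13473a1dea8b2ce0c004914c8add69))
)) (.node (.node (.leaf (nat_lit 0x5be54bb53129aaa99e0e622c418820))
 (.leaf (nat_lit 0x64873bc4b5a05e7341024a88db3960))
) (.node (.leaf (nat_lit 0x1a245aa54f89e7635dcb6d19020820))
 (.leaf (nat_lit 0x3daaa9be448a1c65812d184a2bc194))
))))

noncomputable def cm_T_t : BT :=
cm_T_t0

noncomputable def cm_T : ℕ → ℕ → ℕ := fun x i => Nat.land (Nat.shiftRight (BT.get cm_T_t x) (Nat.mul (nat_lit 5) i)) (nat_lit 31)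

noncomputable def cm_E_t0 : BT :=
(.node (.node (.node (.leaf (nat_lit 0x610c1982a0e602c0181b04600c2203b0580683d06b0c616c098440781d02607100))
 (.leaf (nat_lit 0x606c0981400608c0e00c0680301102d0640d0160030180d00e0190000000000000))
) (.node (.leaf (nat_lit 0x808c1504b0260082a01b0080b02182405806c1980c0260cc1604406a1040000000))
 (.leaf (nat_lit 0x1000000000000020100000000000000000000000004000000000000000000))
)) (.node (.node (.leaf (nat_lit 0x606c0a0140060900d8040681882d8040741902583b01610c2184b05816c2c80000))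
 (.leaf (nat_lit 0x602812003008070098030240680a0080060400202303000c108000000000000000))
) (.leaf (nat_lit 0x40f00a0150060700d80b08804c0182c0160cc1e01c0180f0220120820000000000))
))

noncomputable def cm_E_t : BT :=
cm_E_t0

noncomputable def cm_E : ℕ → ℕ → ℕ := fun x i => Nat.land (Nat.shiftRight (BT.get cm_E_t x) (Nat.mul (nat_lit 11) i)) (nat_lit 2047)

theorem cm_slp0 : allLt (nat_lit 21) (fun i => force (Nat.add (nat_lit 2) i) (slpOK cm_S cm_defs (nat_lit 24))) = true := by decide +kernel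

theorem cm_ren : allLt (nat_lit 16) (fun x => force (cm_iota x) fun y => band (blt y (nat_lit 23)) (allRange (nat_lit 0) (nat_lit 24) fun i => Nat.beq (cm_S y i) (cm_T x i))) = true := by decide +kernel

theorem cm_L6_o : band (allRange (nat_lit 0) (nat_lit 24) (orbOK cm_T (nat_lit 2) (cm_E (nat_lit 6)) (Nat.beq (nat_lit 6)))) (band (Nat.ble (nat_lit 3) (count2 (nat_lit 24) fun p => Nat.ble 256 (cm_E (nat_lit 6) p))) (allLt (nat_lit 0) (fun x => Nat.beq (cm_T x (nat_lit 6)) (nat_lit 6)))) = true := by decide +kernel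

theorem cm_L5_o : band (allRange (nat_lit 0) (nat_lit 24) (orbOK cm_T (nat_lit 5) (cm_E (nat_lit 5)) (Nat.beq (nat_lit 5)))) (band (Nat.ble (nat_lit 16) (count2 (nat_lit 24) fun p => Nat.ble 256 (cm_E (nat_lit 5) p))) (allLt (nat_lit 2) (fun x => Nat.beq (cm_T x (nat_lit 5)) (nat_lit 5)))) = true := by decide +kernel

theorem cm_L4_o : band (allRange (nat_lit 0) (nat_lit 24) (orbOK cm_T (nat_lit 7) (cm_E (nat_lit 4)) (Nat.beq (nat_lit 4)))) (band (Nat.ble (nat_lit 20) (count2 (nat_lit 24) fun p => Nat.ble 256 (cm_E (nat_lit 4) p))) (allLt (nat_lit 5) (fun x => Nat.beq (cm_T x (nat_lit 4)) (nat_lit 4)))) = true := by decide +kernel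

theorem cm_L3_o : band (allRange (nat_lit 0) (nat_lit 24) (orbOK cm_T (nat_lit 9) (cm_E (nat_lit 3)) (Nat.beq (nat_lit 3)))) (band (Nat.ble (nat_lit 21) (count2 (nat_lit 24) fun p => Nat.ble 256 (cm_E (nat_lit 3) p))) (allLt (nat_lit 7) (fun x => Nat.beq (cm_T x (nat_lit 3)) (nat_lit 3)))) = true := by decide +kernel

theorem cm_L2_o : band (allRange (nat_lit 0) (nat_lit 24) (orbOK cm_T (nat_lit 11) (cm_E (nat_lit 2)) (Nat.beq (nat_lit 2)))) (band (Nat.ble (nat_lit 22) (count2 (nat_lit 24) fun p => Nat.ble 256 (cm_E (nat_lit 2) p))) (allLt (nat_lit 9) (fun x => Nat.beq (cm_T x (nat_lit 2)) (nat_lit 2)))) = true := by decide +kernel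

theorem cm_L1_o : band (allRange (nat_lit 0) (nat_lit 24) (orbOK cm_T (nat_lit 13) (cm_E (nat_lit 1)) (Nat.beq (nat_lit 1)))) (band (Nat.ble (nat_lit 23) (count2 (nat_lit 24) fun p => Nat.ble 256 (cm_E (nat_lit 1) p))) (allLt (nat_lit 11) (fun x => Nat.beq (cm_T x (nat_lit 1)) (nat_lit 1)))) = true := by decide +kernel

theorem cm_L0_o : band (allRange (nat_lit 0) (nat_lit 24) (orbOK cm_T (nat_lit 16) (cm_E (nat_lit 0)) (Nat.beq (nat_lit 0)))) (band (Nat.ble (nat_lit 24) (count2 (nat_lit 24) fun p => Nat.ble 256 (cm_E (nat_lit 0) p))) (allLt (nat_lit 13) (fun x => Nat.beq (cm_T x (nat_lit 0)) (nat_lit 0)))) = true := by decide +kernel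

/-- The letters: a strong generating set, deepest stabiliser first. -/
noncomputable def cm_g {G : Type*} [Group G] (a : ℕ → G) : ℕ → G := fun x => slp a 2 cm_defs (cm_iota x)

theorem cm_tabs {G α : Type*} [Group G] [MulAction G α] {e : ℕ → α} {a : ℕ → G} (h0 : Tabs e 24 cm_S a 2) : Tabs e 24 cm_T (cm_g a) 16 :=
  Tabs.rename (ι := cm_iota) (g := slp a 2 cm_defs) ((Tabs.slp_base cm_defs h0).slp_add (by decide) _ cm_slp0) cm_ren

theorem cm_gen {G : Type*} [Group G] (a : ℕ → G) : genLt (cm_g a) 16 = genLt a 2 :=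
  genLt_slp_eq a cm_defs (back := getP 8 255 (nat_lit 0xe0d)) (by decide +kernel)

theorem cm_low6 {G α : Type*} [Group G] [MulAction G α] {e : ℕ → α} {a : ℕ → G} (he : Set.InjOn e (Set.Iio 24)) (h0 : Tabs e 24 cm_S a 2) :
    LowLevel (genLt (cm_g a) 2) (genLt (cm_g a) 0) (e 6) 3 :=
  Tabs.lowLevel (cm_tabs h0) he (by decide) (by decide) (by decide) cm_L6_o

theorem cm_ge6 {G α : Type*} [Group G] [MulAction G α] {e : ℕ → α} {a : ℕ → G} (he : Set.InjOn e (Set.Iio 24)) (h0 : Tabs e 24 cm_S a 2) :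
    Finite (genLt (cm_g a) 2) → 3 ≤ Nat.card (genLt (cm_g a) 2) := fun hK =>
  (cm_low6 he h0).card hK (one_le_card_fin _)

theorem cm_fix6 {G α : Type*} [Group G] [MulAction G α] {e : ℕ → α} {a : ℕ → G} (he : Set.InjOn e (Set.Iio 24)) (h0 : Tabs e 24 cm_S a 2) :
    ∀ X : Subgroup G, Finite X → (genLt (cm_g a) 2) ≤ X → 3 * Nat.card (fixB e X [6]) ≤ Nat.card X :=
  (cm_low6 he h0).card_fix (card_fix_nil _ _)

theorem cm_low5 {G α : Type*} [Group G] [MulAction G α] {e : ℕ → α} {a : ℕ → G} (he : Set.InjOn e (Set.Iio 24)) (h0 : Tabs e 24 cm_S a 2) :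
    LowLevel (genLt (cm_g a) 5) (genLt (cm_g a) 2) (e 5) 16 :=
  Tabs.lowLevel (cm_tabs h0) he (by decide) (by decide) (by decide) cm_L5_o

theorem cm_ge5 {G α : Type*} [Group G] [MulAction G α] {e : ℕ → α} {a : ℕ → G} (he : Set.InjOn e (Set.Iio 24)) (h0 : Tabs e 24 cm_S a 2) :
    Finite (genLt (cm_g a) 5) → 48 ≤ Nat.card (genLt (cm_g a) 5) := fun hK =>
  (cm_low5 he h0).card hK (cm_ge6 he h0)

theorem cm_fix5 {G α : Type*} [Group G] [MulAction G α] {e : ℕ → α} {a : ℕ → G} (he : Set.InjOn e (Set.Iio 24)) (h0 : Tabs e 24 cm_S a 2) :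
    ∀ X : Subgroup G, Finite X → (genLt (cm_g a) 5) ≤ X → 48 * Nat.card (fixB e X [5, 6]) ≤ Nat.card X :=
  (cm_low5 he h0).card_fix (cm_fix6 he h0)

theorem cm_low4 {G α : Type*} [Group G] [MulAction G α] {e : ℕ → α} {a : ℕ → G} (he : Set.InjOn e (Set.Iio 24)) (h0 : Tabs e 24 cm_S a 2) :
    LowLevel (genLt (cm_g a) 7) (genLt (cm_g a) 5) (e 4) 20 :=
  Tabs.lowLevel (cm_tabs h0) he (by decide) (by decide) (by decide) cm_L4_o

theorem cm_ge4 {G α : Type*} [Group G] [MulAction G α] {e : ℕ → α} {a : ℕ → G} (he : Set.InjOn e (Set.Iio 24)) (h0 : Tabs e 24 cm_S a 2) :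
    Finite (genLt (cm_g a) 7) → 960 ≤ Nat.card (genLt (cm_g a) 7) := fun hK =>
  (cm_low4 he h0).card hK (cm_ge5 he h0)

theorem cm_fix4 {G α : Type*} [Group G] [MulAction G α] {e : ℕ → α} {a : ℕ → G} (he : Set.InjOn e (Set.Iio 24)) (h0 : Tabs e 24 cm_S a 2) :
    ∀ X : Subgroup G, Finite X → (genLt (cm_g a) 7) ≤ X → 960 * Nat.card (fixB e X [4, 5, 6]) ≤ Nat.card X :=
  (cm_low4 he h0).card_fix (cm_fix5 he h0)

theorem cm_low3 {G α : Type*} [Group G] [MulAction G α] {e : ℕ → α} {a : ℕ → G} (he : Set.InjOn e (Set.Iio 24)) (h0 : Tabs e 24 cm_S a 2) :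
    LowLevel (genLt (cm_g a) 9) (genLt (cm_g a) 7) (e 3) 21 :=
  Tabs.lowLevel (cm_tabs h0) he (by decide) (by decide) (by decide) cm_L3_o

theorem cm_ge3 {G α : Type*} [Group G] [MulAction G α] {e : ℕ → α} {a : ℕ → G} (he : Set.InjOn e (Set.Iio 24)) (h0 : Tabs e 24 cm_S a 2) :
    Finite (genLt (cm_g a) 9) → 20160 ≤ Nat.card (genLt (cm_g a) 9) := fun hK =>
  (cm_low3 he h0).card hK (cm_ge4 he h0)

theorem cm_fix3 {G α : Type*} [Group G] [MulAction G α] {e : ℕ → α} {a : ℕ → G} (he : Set.InjOn e (Set.Iio 24)) (h0 : Tabs e 24 cm_S a 2) :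
    ∀ X : Subgroup G, Finite X → (genLt (cm_g a) 9) ≤ X → 20160 * Nat.card (fixB e X [3, 4, 5, 6]) ≤ Nat.card X :=
  (cm_low3 he h0).card_fix (cm_fix4 he h0)

theorem cm_low2 {G α : Type*} [Group G] [MulAction G α] {e : ℕ → α} {a : ℕ → G} (he : Set.InjOn e (Set.Iio 24)) (h0 : Tabs e 24 cm_S a 2) :
    LowLevel (genLt (cm_g a) 11) (genLt (cm_g a) 9) (e 2) 22 :=
  Tabs.lowLevel (cm_tabs h0) he (by decide) (by decide) (by decide) cm_L2_o

theorem cm_ge2 {G α : Type*} [Group G] [MulAction G α] {e : ℕ → α} {a : ℕ → G} (he : Set.InjOn e (Set.Iio 24)) (h0 : Tabs e 24 cm_S a 2) :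
    Finite (genLt (cm_g a) 11) → 443520 ≤ Nat.card (genLt (cm_g a) 11) := fun hK =>
  (cm_low2 he h0).card hK (cm_ge3 he h0)

theorem cm_fix2 {G α : Type*} [Group G] [MulAction G α] {e : ℕ → α} {a : ℕ → G} (he : Set.InjOn e (Set.Iio 24)) (h0 : Tabs e 24 cm_S a 2) :
    ∀ X : Subgroup G, Finite X → (genLt (cm_g a) 11) ≤ X → 443520 * Nat.card (fixB e X [2, 3, 4, 5, 6]) ≤ Nat.card X :=
  (cm_low2 he h0).card_fix (cm_fix3 he h0)

theorem cm_low1 {G α : Type*} [Group G] [MulAction G α] {e : ℕ → α} {a : ℕ → G} (he : Set.InjOn e (Set.Iio 24)) (h0 : Tabs e 24 cm_S a 2) :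
    LowLevel (genLt (cm_g a) 13) (genLt (cm_g a) 11) (e 1) 23 :=
  Tabs.lowLevel (cm_tabs h0) he (by decide) (by decide) (by decide) cm_L1_o

theorem cm_ge1 {G α : Type*} [Group G] [MulAction G α] {e : ℕ → α} {a : ℕ → G} (he : Set.InjOn e (Set.Iio 24)) (h0 : Tabs e 24 cm_S a 2) :
    Finite (genLt (cm_g a) 13) → 10200960 ≤ Nat.card (genLt (cm_g a) 13) := fun hK =>
  (cm_low1 he h0).card hK (cm_ge2 he h0)

theorem cm_fix1 {G α : Type*} [Group G] [MulAction G α] {e : ℕ → α} {a : ℕ → G} (he : Set.InjOn e (Set.Iio 24)) (h0 : Tabs e 24 cm_S a 2) :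
    ∀ X : Subgroup G, Finite X → (genLt (cm_g a) 13) ≤ X → 10200960 * Nat.card (fixB e X [1, 2, 3, 4, 5, 6]) ≤ Nat.card X :=
  (cm_low1 he h0).card_fix (cm_fix2 he h0)

theorem cm_low0 {G α : Type*} [Group G] [MulAction G α] {e : ℕ → α} {a : ℕ → G} (he : Set.InjOn e (Set.Iio 24)) (h0 : Tabs e 24 cm_S a 2) :
    LowLevel (genLt (cm_g a) 16) (genLt (cm_g a) 13) (e 0) 24 :=
  Tabs.lowLevel (cm_tabs h0) he (by decide) (by decide) (by decide) cm_L0_o

theorem cm_ge0 {G α : Type*} [Group G] [MulAction G α] {e : ℕ → α} {a : ℕ → G} (he : Set.InjOn e (Set.Iio 24)) (h0 : Tabs e 24 cm_S a 2) :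
    Finite (genLt (cm_g a) 16) → 244823040 ≤ Nat.card (genLt (cm_g a) 16) := fun hK =>
  (cm_low0 he h0).card hK (cm_ge1 he h0)

theorem cm_fix0 {G α : Type*} [Group G] [MulAction G α] {e : ℕ → α} {a : ℕ → G} (he : Set.InjOn e (Set.Iio 24)) (h0 : Tabs e 24 cm_S a 2) :
    ∀ X : Subgroup G, Finite X → (genLt (cm_g a) 16) ≤ X → 244823040 * Nat.card (fixB e X [0, 1, 2, 3, 4, 5, 6]) ≤ Nat.card X :=
  (cm_low0 he h0).card_fix (cm_fix1 he h0)

theorem cm_ub0 {G α : Type*} [Group G] [MulAction G α] {e : ℕ → α} {a : ℕ → G} (he : Set.InjOn e (Set.Iio 24)) (h0 : Tabs e 24 cm_S a 2) (hub : Nat.card (genLt a 2) ≠ 0 ∧ Nat.card (genLt a 2) ≤ 244823040) :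
    Nat.card (genLt (cm_g a) 16) ≠ 0 ∧ Nat.card (genLt (cm_g a) 16) ≤ 244823040 := by rw [cm_gen]; exact hub

theorem cm_level0 {G α : Type*} [Group G] [MulAction G α] {e : ℕ → α} {a : ℕ → G} (he : Set.InjOn e (Set.Iio 24)) (h0 : Tabs e 24 cm_S a 2) (hub : Nat.card (genLt a 2) ≠ 0 ∧ Nat.card (genLt a 2) ≤ 244823040) :
    Level (genLt (cm_g a) 16) (genLt (cm_g a) 13) (e 0) 24 :=
  ((cm_low0 he h0).level (c := 10200960) (cm_ub0 he h0 hub) (cm_ge1 he h0)).1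

theorem cm_ub1 {G α : Type*} [Group G] [MulAction G α] {e : ℕ → α} {a : ℕ → G} (he : Set.InjOn e (Set.Iio 24)) (h0 : Tabs e 24 cm_S a 2) (hub : Nat.card (genLt a 2) ≠ 0 ∧ Nat.card (genLt a 2) ≤ 244823040) :
    Nat.card (genLt (cm_g a) 13) ≠ 0 ∧ Nat.card (genLt (cm_g a) 13) ≤ 10200960 :=
  ((cm_low0 he h0).level (c := 10200960) (cm_ub0 he h0 hub) (cm_ge1 he h0)).2

theorem cm_level1 {G α : Type*} [Group G] [MulAction G α] {e : ℕ → α} {a : ℕ → G} (he : Set.InjOn e (Set.Iio 24)) (h0 : Tabs e 24 cm_S a 2) (hub : Nat.card (genLt a 2) ≠ 0 ∧ Nat.card (genLt a 2) ≤ 244823040) :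
    Level (genLt (cm_g a) 13) (genLt (cm_g a) 11) (e 1) 23 :=
  ((cm_low1 he h0).level (c := 443520) (cm_ub1 he h0 hub) (cm_ge2 he h0)).1

theorem cm_ub2 {G α : Type*} [Group G] [MulAction G α] {e : ℕ → α} {a : ℕ → G} (he : Set.InjOn e (Set.Iio 24)) (h0 : Tabs e 24 cm_S a 2) (hub : Nat.card (genLt a 2) ≠ 0 ∧ Nat.card (genLt a 2) ≤ 244823040) :
    Nat.card (genLt (cm_g a) 11) ≠ 0 ∧ Nat.card (genLt (cm_g a) 11) ≤ 443520 :=
  ((cm_low1 he h0).level (c := 443520) (cm_ub1 he h0 hub) (cm_ge2 he h0)).2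

theorem cm_level2 {G α : Type*} [Group G] [MulAction G α] {e : ℕ → α} {a : ℕ → G} (he : Set.InjOn e (Set.Iio 24)) (h0 : Tabs e 24 cm_S a 2) (hub : Nat.card (genLt a 2) ≠ 0 ∧ Nat.card (genLt a 2) ≤ 244823040) :
    Level (genLt (cm_g a) 11) (genLt (cm_g a) 9) (e 2) 22 :=
  ((cm_low2 he h0).level (c := 20160) (cm_ub2 he h0 hub) (cm_ge3 he h0)).1

theorem cm_ub3 {G α : Type*} [Group G] [MulAction G α] {e : ℕ → α} {a : ℕ → G} (he : Set.InjOn e (Set.Iio 24)) (h0 : Tabs e 24 cm_S a 2) (hub : Nat.card (genLt a 2) ≠ 0 ∧ Nat.card (genLt a 2) ≤ 244823040) :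
    Nat.card (genLt (cm_g a) 9) ≠ 0 ∧ Nat.card (genLt (cm_g a) 9) ≤ 20160 :=
  ((cm_low2 he h0).level (c := 20160) (cm_ub2 he h0 hub) (cm_ge3 he h0)).2

theorem cm_level3 {G α : Type*} [Group G] [MulAction G α] {e : ℕ → α} {a : ℕ → G} (he : Set.InjOn e (Set.Iio 24)) (h0 : Tabs e 24 cm_S a 2) (hub : Nat.card (genLt a 2) ≠ 0 ∧ Nat.card (genLt a 2) ≤ 244823040) :
    Level (genLt (cm_g a) 9) (genLt (cm_g a) 7) (e 3) 21 :=
  ((cm_low3 he h0).level (c := 960) (cm_ub3 he h0 hub) (cm_ge4 he h0)).1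

theorem cm_ub4 {G α : Type*} [Group G] [MulAction G α] {e : ℕ → α} {a : ℕ → G} (he : Set.InjOn e (Set.Iio 24)) (h0 : Tabs e 24 cm_S a 2) (hub : Nat.card (genLt a 2) ≠ 0 ∧ Nat.card (genLt a 2) ≤ 244823040) :
    Nat.card (genLt (cm_g a) 7) ≠ 0 ∧ Nat.card (genLt (cm_g a) 7) ≤ 960 :=
  ((cm_low3 he h0).level (c := 960) (cm_ub3 he h0 hub) (cm_ge4 he h0)).2

theorem cm_level4 {G α : Type*} [Group G] [MulAction G α] {e : ℕ → α} {a : ℕ → G} (he : Set.InjOn e (Set.Iio 24)) (h0 : Tabs e 24 cm_S a 2) (hub : Nat.card (genLt a 2) ≠ 0 ∧ Nat.card (genLt a 2) ≤ 244823040) :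
    Level (genLt (cm_g a) 7) (genLt (cm_g a) 5) (e 4) 20 :=
  ((cm_low4 he h0).level (c := 48) (cm_ub4 he h0 hub) (cm_ge5 he h0)).1

theorem cm_ub5 {G α : Type*} [Group G] [MulAction G α] {e : ℕ → α} {a : ℕ → G} (he : Set.InjOn e (Set.Iio 24)) (h0 : Tabs e 24 cm_S a 2) (hub : Nat.card (genLt a 2) ≠ 0 ∧ Nat.card (genLt a 2) ≤ 244823040) :
    Nat.card (genLt (cm_g a) 5) ≠ 0 ∧ Nat.card (genLt (cm_g a) 5) ≤ 48 :=
  ((cm_low4 he h0).level (c := 48) (cm_ub4 he h0 hub) (cm_ge5 he h0)).2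

theorem cm_level5 {G α : Type*} [Group G] [MulAction G α] {e : ℕ → α} {a : ℕ → G} (he : Set.InjOn e (Set.Iio 24)) (h0 : Tabs e 24 cm_S a 2) (hub : Nat.card (genLt a 2) ≠ 0 ∧ Nat.card (genLt a 2) ≤ 244823040) :
    Level (genLt (cm_g a) 5) (genLt (cm_g a) 2) (e 5) 16 :=
  ((cm_low5 he h0).level (c := 3) (cm_ub5 he h0 hub) (cm_ge6 he h0)).1

theorem cm_ub6 {G α : Type*} [Group G] [MulAction G α] {e : ℕ → α} {a : ℕ → G} (he : Set.InjOn e (Set.Iio 24)) (h0 : Tabs e 24 cm_S a 2) (hub : Nat.card (genLt a 2) ≠ 0 ∧ Nat.card (genLt a 2) ≤ 244823040) :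
    Nat.card (genLt (cm_g a) 2) ≠ 0 ∧ Nat.card (genLt (cm_g a) 2) ≤ 3 :=
  ((cm_low5 he h0).level (c := 3) (cm_ub5 he h0 hub) (cm_ge6 he h0)).2

theorem cm_level6 {G α : Type*} [Group G] [MulAction G α] {e : ℕ → α} {a : ℕ → G} (he : Set.InjOn e (Set.Iio 24)) (h0 : Tabs e 24 cm_S a 2) (hub : Nat.card (genLt a 2) ≠ 0 ∧ Nat.card (genLt a 2) ≤ 244823040) :
    Level (genLt (cm_g a) 2) (genLt (cm_g a) 0) (e 6) 3 :=
  ((cm_low6 he h0).level (c := 1) (cm_ub6 he h0 hub) (one_le_card_fin _)).1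

theorem cm_card6 {G α : Type*} [Group G] [MulAction G α] {e : ℕ → α} {a : ℕ → G} (he : Set.InjOn e (Set.Iio 24)) (h0 : Tabs e 24 cm_S a 2) (hub : Nat.card (genLt a 2) ≠ 0 ∧ Nat.card (genLt a 2) ≤ 244823040) :
    Nat.card (genLt (cm_g a) 2) = 3 :=
  (cm_level6 he h0 hub).card (card_genLt_zero _)

theorem cm_base6 {G α : Type*} [Group G] [MulAction G α] {e : ℕ → α} {a : ℕ → G} (he : Set.InjOn e (Set.Iio 24)) (h0 : Tabs e 24 cm_S a 2) (hub : Nat.card (genLt a 2) ≠ 0 ∧ Nat.card (genLt a 2) ≤ 244823040) :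
    IsBase e (genLt (cm_g a) 2) [6] :=
  (cm_level6 he h0 hub).base (isBase_genLt_zero _ _)

theorem cm_card5 {G α : Type*} [Group G] [MulAction G α] {e : ℕ → α} {a : ℕ → G} (he : Set.InjOn e (Set.Iio 24)) (h0 : Tabs e 24 cm_S a 2) (hub : Nat.card (genLt a 2) ≠ 0 ∧ Nat.card (genLt a 2) ≤ 244823040) :
    Nat.card (genLt (cm_g a) 5) = 48 :=
  (cm_level5 he h0 hub).card (cm_card6 he h0 hub)

theorem cm_base5 {G α : Type*} [Group G] [MulAction G α] {e : ℕ → α} {a : ℕ → G} (he : Set.InjOn e (Set.Iio 24)) (h0 : Tabs e 24 cm_S a 2) (hub : Nat.card (genLt a 2) ≠ 0 ∧ Nat.card (genLt a 2) ≤ 244823040) :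
    IsBase e (genLt (cm_g a) 5) [5, 6] :=
  (cm_level5 he h0 hub).base (cm_base6 he h0 hub)

theorem cm_card4 {G α : Type*} [Group G] [MulAction G α] {e : ℕ → α} {a : ℕ → G} (he : Set.InjOn e (Set.Iio 24)) (h0 : Tabs e 24 cm_S a 2) (hub : Nat.card (genLt a 2) ≠ 0 ∧ Nat.card (genLt a 2) ≤ 244823040) :
    Nat.card (genLt (cm_g a) 7) = 960 :=
  (cm_level4 he h0 hub).card (cm_card5 he h0 hub)

theorem cm_base4 {G α : Type*} [Group G] [MulAction G α] {e : ℕ → α} {a : ℕ → G} (he : Set.InjOn e (Set.Iio 24)) (h0 : Tabs e 24 cm_S a 2) (hub : Nat.card (genLt a 2) ≠ 0 ∧ Nat.card (genLt a 2) ≤ 244823040) :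
    IsBase e (genLt (cm_g a) 7) [4, 5, 6] :=
  (cm_level4 he h0 hub).base (cm_base5 he h0 hub)

theorem cm_card3 {G α : Type*} [Group G] [MulAction G α] {e : ℕ → α} {a : ℕ → G} (he : Set.InjOn e (Set.Iio 24)) (h0 : Tabs e 24 cm_S a 2) (hub : Nat.card (genLt a 2) ≠ 0 ∧ Nat.card (genLt a 2) ≤ 244823040) :
    Nat.card (genLt (cm_g a) 9) = 20160 :=
  (cm_level3 he h0 hub).card (cm_card4 he h0 hub)

theorem cm_base3 {G α : Type*} [Group G] [MulAction G α] {e : ℕ → α} {a : ℕ → G} (he : Set.InjOn e (Set.Iio 24)) (h0 : Tabs e 24 cm_S a 2) (hub : Nat.card (genLt a 2) ≠ 0 ∧ Nat.card (genLt a 2) ≤ 244823040) :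
    IsBase e (genLt (cm_g a) 9) [3, 4, 5, 6] :=
  (cm_level3 he h0 hub).base (cm_base4 he h0 hub)

theorem cm_card2 {G α : Type*} [Group G] [MulAction G α] {e : ℕ → α} {a : ℕ → G} (he : Set.InjOn e (Set.Iio 24)) (h0 : Tabs e 24 cm_S a 2) (hub : Nat.card (genLt a 2) ≠ 0 ∧ Nat.card (genLt a 2) ≤ 244823040) :
    Nat.card (genLt (cm_g a) 11) = 443520 :=
  (cm_level2 he h0 hub).card (cm_card3 he h0 hub)

theorem cm_base2 {G α : Type*} [Group G] [MulAction G α] {e : ℕ → α} {a : ℕ → G} (he : Set.InjOn e (Set.Iio 24)) (h0 : Tabs e 24 cm_S a 2) (hub : Nat.card (genLt a 2) ≠ 0 ∧ Nat.card (genLt a 2) ≤ 244823040) :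
    IsBase e (genLt (cm_g a) 11) [2, 3, 4, 5, 6] :=
  (cm_level2 he h0 hub).base (cm_base3 he h0 hub)

theorem cm_card1 {G α : Type*} [Group G] [MulAction G α] {e : ℕ → α} {a : ℕ → G} (he : Set.InjOn e (Set.Iio 24)) (h0 : Tabs e 24 cm_S a 2) (hub : Nat.card (genLt a 2) ≠ 0 ∧ Nat.card (genLt a 2) ≤ 244823040) :
    Nat.card (genLt (cm_g a) 13) = 10200960 :=
  (cm_level1 he h0 hub).card (cm_card2 he h0 hub)

theorem cm_base1 {G α : Type*} [Group G] [MulAction G α] {e : ℕ → α} {a : ℕ → G} (he : Set.InjOn e (Set.Iio 24)) (h0 : Tabs e 24 cm_S a 2) (hub : Nat.card (genLt a 2) ≠ 0 ∧ Nat.card (genLt a 2) ≤ 244823040) :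
    IsBase e (genLt (cm_g a) 13) [1, 2, 3, 4, 5, 6] :=
  (cm_level1 he h0 hub).base (cm_base2 he h0 hub)

theorem cm_card0 {G α : Type*} [Group G] [MulAction G α] {e : ℕ → α} {a : ℕ → G} (he : Set.InjOn e (Set.Iio 24)) (h0 : Tabs e 24 cm_S a 2) (hub : Nat.card (genLt a 2) ≠ 0 ∧ Nat.card (genLt a 2) ≤ 244823040) :
    Nat.card (genLt (cm_g a) 16) = 244823040 :=
  (cm_level0 he h0 hub).card (cm_card1 he h0 hub)

theorem cm_base0 {G α : Type*} [Group G] [MulAction G α] {e : ℕ → α} {a : ℕ → G} (he : Set.InjOn e (Set.Iio 24)) (h0 : Tabs e 24 cm_S a 2) (hub : Nat.card (genLt a 2) ≠ 0 ∧ Nat.card (genLt a 2) ≤ 244823040) :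
    IsBase e (genLt (cm_g a) 16) [0, 1, 2, 3, 4, 5, 6] :=
  (cm_level0 he h0 hub).base (cm_base1 he h0 hub)

theorem cm_hinv {G α : Type*} [Group G] [MulAction G α] {e : ℕ → α} {a : ℕ → G} (he : Set.InjOn e (Set.Iio 24)) (h0 : Tabs e 24 cm_S a 2) (hub : Nat.card (genLt a 2) ≠ 0 ∧ Nat.card (genLt a 2) ≤ 244823040) : ∀ x < 16, cm_g a x * cm_g a (cm_inv x) = 1 :=
  (cm_tabs h0).hinv_of_base (cm_base0 he h0 hub) (by decide +kernel)

theorem cm_card {G α : Type*} [Group G] [MulAction G α] {e : ℕ → α} {a : ℕ → G} (he : Set.InjOn e (Set.Iio 24)) (h0 : Tabs e 24 cm_S a 2) (hub : Nat.card (genLt a 2) ≠ 0 ∧ Nat.card (genLt a 2) ≤ 244823040) :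
    Nat.card (genLt a 2) = 244823040 := by
  rw [← cm_gen]; exact cm_card0 he h0 hub

end Cfsg.Agent.Spor.J4C
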